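import Cfsg.Agent.BZ.Alt.Spin
import Cfsg.Agent.BZ.Cov
import Cfsg.Agent.S4528
import Cfsg.Agent.S4530
import Cfsg.Agent.SmallSimple.OrderEight

/-!
# BZ/Alt: the reduction for the alternating groups and the row `RowP` (helper31)

* `row_alt` : the covers are `A_n`, `2.A_n` (`p` odd), `3.A₆`, `3.A₇` (`p = 2`);
* `altP : For RowP CAlt`.
-/

set_option autoImplicit false
set_option linter.unusedSectionVars false
set_option maxHeartbeats 400000

namespace Cfsg.Agent.BZ.Alt

open Cfsg Cfsg.Agent.KM Subgroup Cfsg.Agent.SporadicRecognition.AltCover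

/-- **the reduction** -/
theorem row_alt (X : Bad)
    (hX : ∀ (p : ℕ) (G H : Type) [Group G] [Group H] (e : G ≃* H) (B : Set (IrrCharacter G)),
      X p G B → X p H (H649.blkMap e B))
    (hA : ∀ (p : ℕ) [Fact p.Prime] (n : ℕ), 5 ≤ n → ∀ (M : Ideal AlgInt)
      (B : Set (IrrCharacter (alternatingGroup (Fin n)))) (D : Subgroup (alternatingGroup (Fin n))), IsPModular p M →
      IsPBlock M B → IsDefectGroup p M B D → ¬ IsMulCommutative D → ¬ X p _ B)
    (hS : ∀ (p : ℕ) (K : Type) [Group K] (B : Set (IrrCharacter K)), ¬ BK.HZ p B ∧ ¬ EqD p B → ¬ X p K B)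
    (hE : ∀ n, n = 6 ∨ n = 7 → Cov X 3 2 (alternatingGroup (Fin n))) : For (RowX X) CAlt := by
  rintro p hp S _ _ _ - ⟨n, hn, ⟨e₀⟩⟩
  refine RowX.of_equiv e₀ ?_
  intro K _ _ σ M B D H
  let e : K ⧸ center K ≃* alternatingGroup (Fin n) :=
    (QuotientGroup.quotientMulEquivOfEq H.ker.symm).trans (QuotientGroup.quotientKerEquivOfSurjective σ H.surj)
  have hpos : 0 < Nat.card (center K) := Nat.card_pos
  have hcase : Nat.card (center K) = 1 ∨ Nat.card (center K) = 2 ∨
      ((n = 6 ∨ n = 7) ∧ 3 ∣ Nat.card (center K)) := by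
    by_cases h67 : n = 6 ∨ n = 7
    · have h6 := H107.AltBlk.card_center_dvd_six H.qs h67 e
      have h7 : Nat.card (center K) ≤ 6 := Nat.le_of_dvd (by norm_num) h6
      interval_cases h : Nat.card (center K)
      · exact Or.inl rfl
      · exact Or.inr (Or.inl rfl)
      · exact Or.inr (Or.inr ⟨h67, by norm_num⟩)
      · exact absurd h6 (by norm_num)
      · exact absurd h6 (by norm_num)
      · exact Or.inr (Or.inr ⟨h67, by norm_num⟩)
    · push Not at h67
      have h6 := S0892.result n (by omega) h67.1 h67.2 (center K) le_rfl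
        (by rw [H.qs.1.commutator_eq_top]; exact le_top) e
      omega
  rcases hcase with h | h | ⟨h, h3⟩
  · have hbij : Function.Bijective σ := by
      refine ⟨?_, H.surj⟩
      rw [← MonoidHom.ker_eq_bot_iff, H.ker, ← card_eq_one]
      exact h
    let f := MulEquiv.ofBijective σ hbij
    exact fun h1 => hA p n hn M _ _ H.hM (H649.isPBlock_blkMap (e := f) H.hB) (H649.isDefectGroup_blkMap H.hD)
      (nab_map f H.nab) (hX p _ _ f B h1)
  · obtain ⟨π, z, hc, -⟩ := exists_isCover (S2493.nonsplit H.qs.1.commutator_eq_top h e)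
    have hp2 : p ≠ 2 := by
      rintro rfl
      exact H.zp h.symm.dvd
    exact hS p K B (spin_cover hn hp2 hc H.hM H.hB H.hD H.nab fun ψ hψ h1 => hc.z_ne (H.faith ψ hψ z hc.mem_center h1))
  · have h1 := H.cube.trans (H107.AltBlk.card_alt_dvd h)
    have h2 := H.zp
    have hp2 : p = 2 := by
      have h4 : p ^ 3 ≤ 2520 := Nat.le_of_dvd (by norm_num) h1
      have h5 : p < 14 := by
        by_contra h7
        have := Nat.pow_le_pow_left (not_lt.1 h7) 3
        omega
      have h6 := hp.out.two_le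
      interval_cases p <;> first | rfl | omega
    subst hp2
    have h6 := H107.AltBlk.card_center_dvd_six H.qs h e
    have h7 : Nat.card (center K) ≤ 6 := Nat.le_of_dvd (by norm_num) h6
    exact hE n h K σ M B D H (by omega)

/-- non-abelian defect groups of order eight -/
theorem eight {G : Type} [Group G] [Finite G] {M : Ideal AlgInt} (hM : IsPModular 2 M) {B : Set (IrrCharacter G)}
    (hB : IsPBlock M B) {D : Subgroup G} (hD : IsDefectGroup 2 M B D) (h8 : Nat.card D = 8)
    (hna : ¬ IsMulCommutative D) :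
    5 ≤ Nat.card B ∧ Nat.card {χ : IrrCharacter G // χ ∈ B ∧ blockHeight 2 B (χ : G → ℂ) = 0} = 4 := by
  rcases SmallSimple.OrderEight.dihedral_or_quaternion_of_card_eight h8 hna with h | h
  · obtain ⟨h1, -, -, h2, -⟩ := S4528.result M hM B hB D hD 3 le_rfl h
    exact ⟨h1.ge, h2⟩
  · obtain ⟨h1, -, h2, h3, -⟩ := S4530.result M hM B hB D hD 3 le_rfl h
    exact ⟨by omega, h3⟩

theorem card_eight {n : ℕ} (hn : n = 6 ∨ n = 7) {K : Type} [Group K] [Finite K] {σ : K →* alternatingGroup (Fin n)}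
    {M : Ideal AlgInt} {B : Set (IrrCharacter K)} {D : Subgroup K} (H : Hyp 2 M B D σ) (h3 : Nat.card (center K) = 3) :
    Nat.card D = 8 ∧ ¬ 16 ∣ Nat.card K := by
  have : Fact (Nat.Prime 2) := ⟨Nat.prime_two⟩
  have h1 : ¬ 16 ∣ Nat.card K := fun h => by
    rw [H.card_eq, h3] at h
    have := h.trans (mul_dvd_mul_right (H107.AltBlk.card_alt_dvd hn) 3)
    omega
  refine ⟨?_, h1⟩
  obtain ⟨d, hd⟩ := IsPGroup.iff_card.1 H.pg
  have h2 := H.cube_dvd
  rw [hd, Nat.pow_dvd_pow_iff_le_right one_lt_two] at h2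
  have h4 : d < 4 := by
    by_contra h5
    exact h1 (((pow_dvd_pow 2 (not_lt.1 h5)).trans hd.symm.dvd).trans (card_subgroup_dvd_card D))
  rw [hd, show d = 3 by omega]
  norm_num

theorem excP {n : ℕ} (hn : n = 6 ∨ n = 7) : Cov XP 3 2 (alternatingGroup (Fin n)) := by
  intro K _ _ σ M B D H h3 hz
  obtain ⟨h1, h2⟩ := eight H.hM H.hB H.hD (card_eight hn H h3).1 H.nab
  have h4 : Nat.card {χ : IrrCharacter K // χ ∈ B ∧ blockHeight 2 B (χ : K → ℂ) = 0} = Nat.card B :=
    Nat.card_congr (Equiv.subtypeEquivRight fun χ => ⟨fun h => h.1, fun h => ⟨h, hz χ h⟩⟩)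
  omega

/-- **the row `RowP` for the alternating groups** -/
theorem altP : For RowP CAlt :=
  row_alt XP (fun _ _ _ _ _ e _ h => hz_map e h)
    (fun p _ n hn M B D hM hB hD hna hz => by
      have : Nontrivial (Fin n) := Fin.nontrivial_iff_two_le.2 (by omega)
      rcases H614.alt_main hM hB hD with ⟨⟨χ, h1, h2⟩, -⟩ | ⟨-, h⟩
      · have h3 := hz χ h1
        omega
      · exact hna h)
    (fun _ _ _ _ h => h.1) fun _ hn => excP hn

end Cfsg.Agent.BZ.Alt
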