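import Cfsg.Agent.H614.Val

/-!
# BZ/Alt: the abacus of a core (helper31)

For a finite set `S` of integers `≥ lo` which is closed under `b ↦ b - p` (as long as `b - p ≥ lo`) put
`gq S lo v = ∏_{b ∈ S, b ≠ v} |v - b| / (v - lo)!`.  Then `gq v = gq (v + p) * ∏_{y ∈ tops, y ≠ v} |v - y|`.
-/

set_option autoImplicit false
set_option linter.unusedSectionVars false
set_option maxHeartbeats 400000

namespace Cfsg.Agent.BZ.Alt

open Finset

/-- the distance, with `1` on the diagonal -/
def ph (v z : ℤ) : ℕ := if z = v then 1 else (v - z).natAbs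

theorem ph_pos (v z : ℤ) : 0 < ph v z := by
  unfold ph; split_ifs <;> omega

theorem ph_ne {v z : ℤ} (h : z ≠ v) : ph v z = (v - z).natAbs := if_neg h

theorem ph_self (v : ℤ) : ph v v = 1 := if_pos rfl

theorem ph_shift (v z c : ℤ) : ph v (z - c) = ph (v + c) z := by
  unfold ph
  by_cases h : z = v + c
  · rw [if_pos h, if_pos (by omega)]
  · rw [if_neg h, if_neg (by omega)]; congr 1; ring

/-- the product of the distances -/
def Gam (S : Finset ℤ) (v : ℤ) : ℕ := ∏ b ∈ S, ph v b

theorem Gam_pos (S : Finset ℤ) (v : ℤ) : 0 < Gam S v := Finset.prod_pos fun _ _ => ph_pos _ _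

theorem Gam_Ico (k : ℕ) {b v : ℤ} (h : b ≤ v) :
    Gam (Ico (b - k) b) v * (v - b).toNat.factorial = ((v - b).toNat + k).factorial := by
  induction k with
  | zero => simp [Gam]
  | succ k ih =>
    have h1 : Ico (b - (k + 1 : ℕ)) b = insert (b - (k + 1 : ℕ)) (Ico (b - k) b) := by
      ext z
      rw [Finset.mem_insert, Finset.mem_Ico, Finset.mem_Ico]
      omega
    unfold Gam at ih ⊢
    rw [h1, Finset.prod_insert (by rw [Finset.mem_Ico]; omega), mul_assoc, ih, ph_ne (by omega), ← add_assoc,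
      Nat.factorial_succ]
    congr 1
    omega

theorem Gam_Ico' (k : ℕ) (v : ℤ) : Gam (Ico (v + 1) (v + 1 + k)) v = k.factorial := by
  induction k with
  | zero => simp [Gam]
  | succ k ih =>
    have h1 : Ico (v + 1) (v + 1 + (k + 1 : ℕ)) = insert (v + 1 + k) (Ico (v + 1) (v + 1 + k)) := by
      ext z
      rw [Finset.mem_insert, Finset.mem_Ico, Finset.mem_Ico]
      omega
    unfold Gam at ih ⊢
    rw [h1, Finset.prod_insert (by rw [Finset.mem_Ico]; omega), ih, ph_ne (by omega), Nat.factorial_succ]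
    congr 1
    omega

/-- closed sets -/
structure Clo (p : ℕ) (lo : ℤ) (S : Finset ℤ) : Prop where
  ge : ∀ b ∈ S, lo ≤ b
  down : ∀ b ∈ S, lo ≤ b - p → b - p ∈ S

/-- the highest beads -/
noncomputable def tops (p : ℕ) (lo : ℤ) (S : Finset ℤ) : Finset ℤ := (S ∪ Ico (lo - p) lo).filter fun z => z + p ∉ S

variable {p : ℕ} {lo : ℤ} {S : Finset ℤ}

theorem mem_tops {y : ℤ} : y ∈ tops p lo S ↔ (y ∈ S ∨ (lo - p ≤ y ∧ y < lo)) ∧ y + p ∉ S := by
  unfold tops
  rw [Finset.mem_filter, Finset.mem_union, Finset.mem_Ico]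

theorem Clo.iter (h : Clo p lo S) {b : ℤ} (hb : b ∈ S) (k : ℕ) (hk : lo ≤ b - p * k) : b - p * k ∈ S := by
  induction k with
  | zero => simpa using hb
  | succ k ih =>
    have e : b - p * (k + 1 : ℕ) = b - p * k - p := by push_cast; ring
    rw [e] at hk ⊢
    exact h.down _ (ih (by omega)) hk

theorem Clo.of_dvd (h : Clo p lo S) {b z : ℤ} (hb : b ∈ S) (hz : lo ≤ z) (hle : z ≤ b) (hd : (p : ℤ) ∣ b - z) :
    z ∈ S := by
  obtain ⟨c, hc⟩ := hd
  rcases Nat.eq_zero_or_pos p with rfl | hp
  · have : z = b := by simp at hc; omega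
    rwa [this]
  have h0 : 0 ≤ c := by
    by_contra hcon
    have : (p : ℤ) * c < 0 := mul_neg_of_pos_of_neg (by exact_mod_cast hp) (by omega)
    omega
  obtain ⟨k, rfl⟩ := Int.eq_ofNat_of_zero_le h0
  have e : z = b - p * k := by omega
  rw [e] at hz ⊢
  exact h.iter hb k hz

theorem Clo.step (h : Clo p lo S) (v : ℤ) :
    Gam S v * Gam (Ico (lo - p) lo) v = Gam S (v + p) * Gam (tops p lo S) v := by
  classical
  unfold Gam tops
  rw [← Finset.prod_union (by
    rw [Finset.disjoint_left]
    intro z h1 h2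
    have := h.ge z h1
    rw [Finset.mem_Ico] at h2
    omega), ← Finset.prod_filter_mul_prod_filter_not (S ∪ Ico (lo - p) lo) (fun z => z + p ∈ S)]
  congr 1
  symm
  refine Finset.prod_bij (fun b _ => b - p) ?_ ?_ ?_ ?_
  · intro b hb
    rw [Finset.mem_filter, Finset.mem_union, Finset.mem_Ico, sub_add_cancel]
    refine ⟨?_, hb⟩
    have := h.ge b hb
    by_cases h1 : lo ≤ b - p
    · exact Or.inl (h.down b hb h1)
    · right; omega
  · intro a _ b _ hab
    omega
  · intro z hz
    exact ⟨z + p, (Finset.mem_filter.1 hz).2, by ring⟩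
  · intro b _
    exact (ph_shift _ _ _).symm

/-- the normalised product -/
def gq (S : Finset ℤ) (lo v : ℤ) : ℚ := (Gam S v : ℚ) / ((v - lo).toNat.factorial : ℚ)

theorem gq_pos (S : Finset ℤ) (lo v : ℤ) : 0 < gq S lo v :=
  div_pos (by exact_mod_cast Gam_pos S v) (by exact_mod_cast Nat.factorial_pos _)

theorem Clo.stepq (h : Clo p lo S) {v : ℤ} (hv : lo ≤ v) :
    gq S lo v = gq S lo (v + p) * Gam (tops p lo S) v := by
  have h1 := h.step v
  have h2 := Gam_Ico p hv
  have h3 : (v + p - lo).toNat = (v - lo).toNat + p := by omega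
  unfold gq
  rw [h3, ← h2, div_mul_eq_mul_div, div_eq_div_iff (by exact_mod_cast Nat.factorial_ne_zero _)
    (by exact_mod_cast mul_ne_zero (Gam_pos _ _).ne' (Nat.factorial_ne_zero _))]
  have h4 := congrArg (Nat.cast : ℕ → ℚ) h1
  push_cast at h4 ⊢
  linear_combination (((v - lo).toNat.factorial : ℕ) : ℚ) * h4

theorem Clo.iterq (h : Clo p lo S) {v : ℤ} (hv : lo ≤ v) (k : ℕ) :
    gq S lo v = gq S lo (v + p * k) * ((∏ t ∈ range k, Gam (tops p lo S) (v + p * t) : ℕ) : ℚ) := by
  induction k with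
  | zero => simp
  | succ k ih =>
    have h0 : (0 : ℤ) ≤ p * k := by positivity
    rw [ih, h.stepq (v := v + p * k) (by omega), Finset.prod_range_succ]
    have e : v + p * k + p = v + p * (k + 1 : ℕ) := by push_cast; ring
    rw [e]
    push_cast
    ring

theorem Clo.top_eq (h : Clo p lo S) {x y : ℤ} (hx : x ∈ tops p lo S) (hy : y ∈ tops p lo S)
    (hd : (p : ℤ) ∣ x - y) : x = y := by
  have key : ∀ {x y : ℤ}, x ∈ tops p lo S → y ∈ tops p lo S → (p : ℤ) ∣ x - y → ¬ y < x := by
    intro x y hx hy hd hlt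
    rw [mem_tops] at hx hy
    have h1 := Int.le_of_dvd (by omega) hd
    have h2 : lo ≤ y + p := by
      rcases hy.1 with h2 | h2
      · have := h.ge y h2; omega
      · omega
    have h3 : x ∈ S := hx.1.resolve_right (by omega)
    refine hy.2 (h.of_dvd h3 h2 (by omega) ?_)
    rw [show x - (y + p) = x - y - p by ring]
    exact dvd_sub hd (dvd_refl _)
  have h1 := key hx hy hd
  have h2 := key hy hx (dvd_sub_comm.1 hd)
  omega

theorem exists_top (_hp : 0 < p) {z : ℤ} (hz : lo - p ≤ z ∧ z < lo) : ∃ y ∈ tops p lo S, (p : ℤ) ∣ y - z := by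
  classical
  obtain ⟨y, hy, hmax⟩ := Finset.exists_max_image ((S ∪ Ico (lo - p) lo).filter fun y => (p : ℤ) ∣ y - z) id
    ⟨z, Finset.mem_filter.2 ⟨Finset.mem_union_right _ (Finset.mem_Ico.2 hz), by simp⟩⟩
  rw [Finset.mem_filter] at hy
  refine ⟨y, Finset.mem_filter.2 ⟨hy.1, fun h => ?_⟩, hy.2⟩
  have := hmax (y + p) (Finset.mem_filter.2 ⟨Finset.mem_union_left _ h, by
    rw [show y + p - z = y - z + p by ring]
    exact dvd_add hy.2 (dvd_refl _)⟩)
  simp only [id] at this
  omega

section Val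

variable [hp : Fact p.Prime]

theorem val_Gam (T : Finset ℤ) (v : ℤ) :
    padicValNat p (Gam T v) = ∑ b ∈ T.filter (fun b => (p : ℤ) ∣ v - b), padicValNat p (ph v b) := by
  unfold Gam
  rw [H614.padicValNat_finset_prod _ _ (fun b _ => (ph_pos v b).ne'), Finset.sum_filter]
  refine Finset.sum_congr rfl fun b _ => ?_
  split_ifs with h
  · rfl
  · apply padicValNat.eq_zero_of_not_dvd
    rw [ph_ne (by rintro rfl; exact h (by simp)), ← Int.natCast_dvd]
    exact h

theorem Clo.val_tops (h : Clo p lo S) {x v : ℤ} (hx : x ∈ tops p lo S) (hd : (p : ℤ) ∣ v - x) :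
    padicValNat p (Gam (tops p lo S) v) = padicValNat p (ph v x) := by
  rw [val_Gam, Finset.sum_eq_single x]
  · intro b hb hne
    rw [Finset.mem_filter] at hb
    refine absurd (h.top_eq hb.1 hx ?_) hne
    rw [show b - x = (v - x) - (v - b) by ring]
    exact dvd_sub hd hb.2
  · intro h1
    exact absurd (Finset.mem_filter.2 ⟨hx, hd⟩) h1

theorem sum_val_mul (m : ℕ) : ∑ t ∈ range m, padicValNat p (p * (t + 1)) = m + padicValNat p m.factorial := by
  induction m with
  | zero => simp
  | succ m ih =>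
    rw [Finset.sum_range_succ, ih, Nat.factorial_succ, padicValNat.mul hp.out.ne_zero (Nat.succ_ne_zero m),
      padicValNat.mul (Nat.succ_ne_zero m) (Nat.factorial_ne_zero m), padicValNat_self]
    ring

/-- the first gap of a runner -/
theorem Clo.val_gq (h : Clo p lo S) {y : ℤ} (hy : y ∈ tops p lo S) : padicValRat p (gq S lo (y + p)) = 0 := by
  classical
  have hq : (0 : ℤ) < p := by exact_mod_cast hp.out.pos
  rw [mem_tops] at hy
  have h0 : lo ≤ y + p := by
    rcases hy.1 with h2 | h2
    · have := h.ge y h2; omega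
    · omega
  obtain ⟨d, hd⟩ : ∃ d : ℕ, y + p - lo = d := ⟨(y + p - lo).toNat, by omega⟩
  have h1 : padicValNat p (Gam S (y + p)) = padicValNat p d.factorial := by
    rw [val_Gam, H614.val_factorial, ← sum_val_mul]
    symm
    have h2 := Nat.div_add_mod d p
    have h3 := Nat.mod_lt d hp.out.pos
    have h4 : ((p * (d / p) : ℕ) : ℤ) = p * (d / p : ℕ) := by push_cast; rfl
    refine Finset.sum_bij (fun t _ => y - p * t) ?_ ?_ ?_ ?_
    · intro t ht
      rw [Finset.mem_range] at ht
      have h5 : (p : ℤ) * (t + 1) ≤ p * (d / p : ℕ) := mul_le_mul_of_nonneg_left (by exact_mod_cast ht) hq.le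
      rw [mul_add, mul_one] at h5
      have h6 : (0 : ℤ) ≤ p * t := by positivity
      have h7 : y ∈ S := hy.1.resolve_right (by omega)
      rw [Finset.mem_filter]
      refine ⟨h.iter h7 t (by omega), ⟨t + 1, by ring⟩⟩
    · intro a _ b _ hab
      have : (p : ℤ) * a = p * b := by omega
      exact_mod_cast mul_left_cancel₀ hq.ne' this
    · intro b hb
      rw [Finset.mem_filter] at hb
      obtain ⟨hb, c, hc⟩ := hb
      have h5 : b < y + p := by
        by_contra hcon
        refine hy.2 (h.of_dvd hb h0 (by omega) ?_)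
        rw [show b - (y + p) = -(y + p - b) by ring, hc]
        exact dvd_neg.2 (dvd_mul_right _ _)
      have h6 : 0 < c := by
        by_contra hcon
        have : (p : ℤ) * c ≤ 0 := mul_nonpos_of_nonneg_of_nonpos hq.le (by omega)
        omega
      obtain ⟨t, rfl⟩ : ∃ t : ℕ, c = t + 1 := ⟨(c - 1).toNat, by omega⟩
      have h7 := h.ge b hb
      refine ⟨t, ?_, by linear_combination hc⟩
      rw [Finset.mem_range]
      have h8 : p * (t + 1) ≤ d := by
        have : (p : ℤ) * (t + 1) ≤ d := by omega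
        exact_mod_cast this
      exact (Nat.le_div_iff_mul_le hp.out.pos).2 (by rw [mul_comm]; exact h8)
    · intro t _
      have h6 : (0 : ℤ) ≤ p * t := by positivity
      rw [ph_ne (by omega)]
      congr 1
      have : y + p - (y - p * t) = ((p * (t + 1) : ℕ) : ℤ) := by push_cast; ring
      rw [this, Int.natAbs_natCast]
  unfold gq
  rw [hd, Int.toNat_natCast, padicValRat.div (by exact_mod_cast (Gam_pos _ _).ne')
    (by exact_mod_cast Nat.factorial_ne_zero _), padicValRat.of_nat, padicValRat.of_nat, h1, sub_self]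

/-- the valuation of the product along a hook -/
theorem Clo.val_hook (h : Clo p lo S) {x : ℤ} (hx : x ∈ tops p lo S) (j k : ℕ) :
    padicValNat p (∏ t ∈ range (j + 1 + k), Gam (tops p lo S) (x - p * j + p * t)) =
      (j + padicValNat p j.factorial) + (k + padicValNat p k.factorial) := by
  have hq : (0 : ℤ) < p := by exact_mod_cast hp.out.pos
  rw [H614.padicValNat_finset_prod _ _ (fun t _ => (Gam_pos _ _).ne'),
    Finset.sum_congr rfl (fun (t : ℕ) _ => h.val_tops hx (v := x - p * j + p * t) ⟨t - j, by ring⟩),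
    Finset.sum_range_add, Finset.sum_range_succ, ← sum_val_mul, ← sum_val_mul]
  have e0 : x - p * j + p * j = x := by ring
  rw [e0, ph_self, padicValNat_one_right, add_zero, ← Finset.sum_range_reflect]
  congr 1
  · refine Finset.sum_congr rfl fun t ht => ?_
    rw [Finset.mem_range] at ht
    have e : x - p * j + p * (j - 1 - t : ℕ) - x = -((p * (t + 1) : ℕ) : ℤ) := by
      rw [Nat.sub_sub, Nat.cast_sub (by omega)]
      push_cast; ring
    have h6 : 0 < p * (t + 1) := Nat.mul_pos hp.out.pos (by omega)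
    rw [ph_ne (by omega), e, Int.natAbs_neg, Int.natAbs_natCast]
  · refine Finset.sum_congr rfl fun t _ => ?_
    have e : x - p * j + p * (j + 1 + t : ℕ) - x = ((p * (t + 1) : ℕ) : ℤ) := by
      push_cast; ring
    have h6 : 0 < p * (t + 1) := Nat.mul_pos hp.out.pos (by omega)
    rw [ph_ne (by omega), e, Int.natAbs_natCast]

end Val

end Cfsg.Agent.BZ.Alt
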