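import Cfsg.Agent.BZ.Alt.Pos
import Cfsg.Agent.BZ.Alt.Core
import Cfsg.Agent.H87.Spin.Ones

/-!
# BZ/Alt: bar cores, the degree function (helper31)

* `Cor p K` : `K` is a `p`-bar core; `exists_cor`, `Rch.sum`, `Rch.wt`;
* `Ed L` : `|X 1^n L| = n! * Ed L`; `Ed_cons`; the doubled abacus `dbl`;
* `Cor.val`, `Cor.wt` : the valuation of the degree and the weight of a core.
-/

set_option autoImplicit false
set_option linter.unusedSectionVars false
set_option maxHeartbeats 400000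

namespace Cfsg.Agent.BZ.Alt

open Finset Cfsg.Agent.H614 Cfsg.Agent.H614.Spin
open Cfsg.Agent.H886.Spin (Rules X_rules wt_perm wt_omit wt_append_zero wt_shift)

/-- bar cores -/
structure Cor (p : ℕ) (K : List ℤ) : Prop where
  gd : Gd K
  down : ∀ a ∈ K, (p : ℤ) < a → a - p ∈ K
  notp : (p : ℤ) ∉ K
  pair : ∀ a ∈ K, (p : ℤ) - a ∉ K

variable {p : ℕ}

theorem Gd.erase {L : List ℤ} (h : Gd L) (a : ℤ) : Gd (L.erase a) :=
  ⟨h.1.erase a, fun b hb => h.2 b (List.mem_of_mem_erase hb)⟩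

theorem Gd.cons {L : List ℤ} (h : Gd L) {a : ℤ} (ha : 0 < a) (hn : a ∉ L) : Gd (a :: L) :=
  ⟨List.nodup_cons.2 ⟨hn, h.1⟩, fun b hb => by
    rcases List.mem_cons.1 hb with rfl | hb
    · exact ha
    · exact h.2 b hb⟩

theorem Gd.tail {L : List ℤ} {a : ℤ} (h : Gd (a :: L)) : Gd L :=
  ⟨(List.nodup_cons.1 h.1).2, fun b hb => h.2 b (List.mem_cons_of_mem _ hb)⟩

theorem Mv.sum {L L' : List ℤ} (h : Mv p L L') : L.sum = L'.sum + p := by
  rcases h with ⟨a, K, -, h1, h2⟩ | h | ⟨a, h⟩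
  · rw [h1.sum_eq, h2.sum_eq, List.sum_cons, List.sum_cons]; ring
  · rw [h.sum_eq, List.sum_cons]; ring
  · rw [h.sum_eq, List.sum_cons, List.sum_cons]; ring

theorem Mv.wt (hp : Odd p) {L L' : List ℤ} (h : Mv p L L') : wt p L = wt p L' + 1 := by
  have hq : (p : ℤ) ≠ 0 := by exact_mod_cast hp.pos.ne'
  have key : ∀ (a : ℤ) (K : List ℤ), H614.Spin.wt p (a :: K) = H614.Spin.wt p ((a - p) :: K) + 1 := by
    intro a K
    have h1 := wt_shift hp.pos (dvd_refl (p : ℤ)) [] a K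
    simp only [List.nil_append] at h1
    refine mul_left_cancel₀ hq ?_
    rw [mul_add, h1]; ring
  rcases h with ⟨a, K, -, h1, h2⟩ | h | ⟨a, h⟩
  · rw [wt_perm h1, wt_perm h2, key]
  · rw [wt_perm h, key, sub_self, ← wt_perm (List.perm_append_singleton 0 L'), wt_append_zero]
  · have h1 := wt_omit hp [] (a := a - p) (b := p - a) (by ring) L'
    simp only [List.nil_append] at h1
    rw [wt_perm h, key, h1]

theorem Rch.sum {w : ℕ} {L K : List ℤ} (h : Rch p w L K) : L.sum = K.sum + p * w := by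
  induction h with
  | zero h => rw [h.sum_eq]; simp
  | succ _ h _ ih => rw [h.sum, ih]; push_cast; ring

theorem Rch.wt (hp : Odd p) {w : ℕ} {L K : List ℤ} (h : Rch p w L K) : wt p L = wt p K + w := by
  induction h with
  | zero h => rw [wt_perm h]; simp
  | succ _ h _ ih => rw [h.wt hp, ih]; push_cast; ring

theorem Gd.sum_nonneg {L : List ℤ} (h : Gd L) : 0 ≤ L.sum := List.sum_nonneg fun a ha => (h.2 a ha).le

theorem exists_cor (hp : Odd p) {L : List ℤ} (h : Gd L) : ∃ w K, Rch p w L K ∧ Cor p K := by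
  obtain ⟨m, hm⟩ : ∃ m : ℕ, L.sum < m := ⟨L.sum.toNat + 1, by omega⟩
  induction m generalizing L with
  | zero => have := h.sum_nonneg; omega
  | succ m ih =>
    have hq := hp.pos
    by_cases hex : ∃ L', Gd L' ∧ Mv p L L'
    · obtain ⟨L', h1, h2⟩ := hex
      obtain ⟨w, K, h3, h4⟩ := ih h1 (by have := h2.sum; omega)
      exact ⟨w + 1, K, Rch.succ h1 h2 h3, h4⟩
    · refine ⟨0, L, Rch.zero (List.Perm.refl _), h, fun a ha hlt => ?_, fun ha => ?_, fun a ha hb => ?_⟩
      · by_contra hcon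
        exact hex ⟨(a - p) :: L.erase a, (h.erase a).cons (by omega) fun h1 => hcon (List.mem_of_mem_erase h1),
          Or.inl ⟨a, L.erase a, hlt, List.perm_cons_erase ha, List.Perm.refl _⟩⟩
      · exact hex ⟨L.erase p, h.erase _, Or.inr (Or.inl (List.perm_cons_erase ha))⟩
      · have hne : (p : ℤ) - a ≠ a := by have := Nat.odd_iff.1 hp; omega
        exact hex ⟨(L.erase a).erase (p - a), (h.erase _).erase _, Or.inr (Or.inr ⟨a, (List.perm_cons_erase ha).trans
          ((List.perm_cons_erase ((List.mem_erase_of_ne hne).2 hb)).cons a)⟩)⟩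

theorem Cor.iter {K : List ℤ} (h : Cor p K) {a : ℤ} (ha : a ∈ K) (t : ℕ) (ht : 0 < a - p * t) : a - p * t ∈ K := by
  induction t with
  | zero => simpa using ha
  | succ t ih =>
    have e : a - p * (t + 1 : ℕ) = a - p * t - p := by push_cast; ring
    rw [e] at ht ⊢
    exact h.down _ (ih (by omega)) (by omega)

theorem Cor.low (hp : 0 < p) {K : List ℤ} (h : Cor p K) {a : ℤ} (ha : a ∈ K) :
    ∃ r ∈ K, r < p ∧ (p : ℤ) ∣ a - r := by
  have hq : (0 : ℤ) < p := by exact_mod_cast hp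
  have h0 := h.gd.2 a ha
  have h1 := Int.mul_ediv_add_emod (a - 1) p
  have h2 := Int.emod_nonneg (a - 1) hq.ne'
  have h3 := Int.emod_lt_of_pos (a - 1) hq
  obtain ⟨t, ht⟩ := Int.eq_ofNat_of_zero_le (Int.ediv_nonneg (show 0 ≤ a - 1 by omega) hq.le)
  rw [ht] at h1
  have h4 := h.iter ha t (by omega)
  refine ⟨_, h4, ?_, ⟨t, by ring⟩⟩
  have h5 : a - p * t ≠ p := fun e => h.notp (e ▸ h4)
  omega

theorem Cor.not_dvd (hp : 0 < p) {K : List ℤ} (h : Cor p K) {a : ℤ} (ha : a ∈ K) : ¬ (p : ℤ) ∣ a := by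
  obtain ⟨r, hr, h1, h2⟩ := h.low hp ha
  intro h3
  have h4 : (p : ℤ) ∣ r := by
    rw [show r = a - (a - r) by ring]
    exact dvd_sub h3 h2
  have := Int.le_of_dvd (h.gd.2 r hr) h4
  omega

theorem Cor.not_dvd_add (hp : 0 < p) {K : List ℤ} (h : Cor p K) {a b : ℤ} (ha : a ∈ K) (hb : b ∈ K) :
    ¬ (p : ℤ) ∣ a + b := by
  obtain ⟨r, hr, h1, h2⟩ := h.low hp ha
  obtain ⟨s, hs, h3, h4⟩ := h.low hp hb
  intro h5
  have h6 : (p : ℤ) ∣ r + s - p := by
    rw [show r + s - p = a + b - (a - r) - (b - s) - p by ring]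
    exact dvd_sub (dvd_sub (dvd_sub h5 h2) h4) (dvd_refl _)
  have h7 := h.gd.2 r hr
  have h8 := h.gd.2 s hs
  have h9 : r + s - p = 0 := Int.eq_zero_of_dvd_of_natAbs_lt_natAbs h6 (by omega)
  exact h.pair r hr (by rwa [show (p : ℤ) - r = s by omega])

/-! ### the degree function -/

/-- the degree divided by `n!` -/
def Ed (L : List ℤ) : ℚ := |ratio L| / fden L

theorem ratio_cons' (a : ℤ) (L : List ℤ) :
    ratio (a :: L) = (L.map fun b => ((a - b : ℤ) : ℚ) / ((a + b : ℤ) : ℚ)).prod * ratio L := rfl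

theorem abs_ratio_perm {L L' : List ℤ} (h : L.Perm L') : |ratio L| = |ratio L'| := by
  induction h with
  | nil => rfl
  | cons a h ih => rw [ratio_cons', ratio_cons', abs_mul, abs_mul, ih, (h.map _).prod_eq]
  | swap a b L =>
    simp only [ratio_cons', List.map_cons, List.prod_cons, abs_mul, abs_div]
    rw [show ((a - b : ℤ) : ℚ) = -((b - a : ℤ) : ℚ) by push_cast; ring, abs_neg, add_comm a b]
    ring
  | trans _ _ ih1 ih2 => exact ih1.trans ih2

theorem Ed_perm {L L' : List ℤ} (h : L.Perm L') : Ed L = Ed L' := by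
  unfold Ed fden
  rw [abs_ratio_perm h, (h.map _).prod_eq]

theorem X_Ed {n : ℕ} {L : List ℤ} (hL : Strict L) (hs : L.sum = n) :
    (X (Multiset.replicate n 1) L : ℚ) = n.factorial * Ed L := by
  rw [X_ones n hL hs]
  unfold Ed fden
  rw [abs_of_pos (ratio_pos hL)]
  ring

/-- the product of the sums -/
def Pp (A : Finset ℤ) (v : ℤ) : ℕ := ∏ b ∈ A, ph v (-b)

theorem Pp_pos (A : Finset ℤ) (v : ℤ) : 0 < Pp A v := Finset.prod_pos fun _ _ => ph_pos _ _

/-- the factor of a new part -/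
def Gl (A : Finset ℤ) (v : ℤ) : ℚ := (Gam A v : ℚ) / ((v.toNat.factorial : ℚ) * Pp A v)

theorem Gl_insert {A : Finset ℤ} {c : ℤ} (hc : c ∉ A) (v : ℤ) :
    Gl (insert c A) v = Gl A v * ((ph v c : ℚ) / ph v (-c)) := by
  unfold Gl Gam Pp
  rw [Finset.prod_insert hc, Finset.prod_insert hc]
  push_cast
  rw [div_mul_div_comm]
  congr 1 <;> ring

theorem Ed_cons {v : ℤ} {K : List ℤ} (h : Gd (v :: K)) : Ed (v :: K) = Gl K.toFinset v * Ed K := by
  have hv := h.2 v List.mem_cons_self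
  have h1 : ∀ M : List ℤ, Gd (v :: M) → |(M.map fun b => ((v - b : ℤ) : ℚ) / ((v + b : ℤ) : ℚ)).prod| /
      (v.toNat.factorial : ℚ) = Gl M.toFinset v := by
    intro M hM
    induction M with
    | nil => simp [Gl, Gam, Pp]
    | cons c M ih =>
      have h2 : Gd (c :: v :: M) := hM.perm (List.Perm.swap _ _ _)
      have h3 := List.nodup_cons.1 h2.1
      have h4 : c ≠ v := fun e => h3.1 (e ▸ List.mem_cons_self)
      have h5 := h2.2 c List.mem_cons_self
      rw [List.toFinset_cons, Gl_insert (fun h => h3.1 (List.mem_cons_of_mem _ (List.mem_toFinset.1 h))),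
        ← ih h2.tail, List.map_cons, List.prod_cons, abs_mul, abs_div, ph_ne h4, ph_ne (by omega), sub_neg_eq_add,
        Nat.cast_natAbs, Nat.cast_natAbs, Int.cast_abs, Int.cast_abs]
      ring
  unfold Ed fden
  rw [ratio_cons', abs_mul, List.map_cons, List.prod_cons, ← h1 K h]
  ring

theorem Gl_pos (A : Finset ℤ) (v : ℤ) : 0 < Gl A v :=
  div_pos (by exact_mod_cast Gam_pos A v)
    (mul_pos (by exact_mod_cast Nat.factorial_pos _) (by exact_mod_cast Pp_pos A v))

theorem Ed_pos {L : List ℤ} (h : Gd L) : 0 < Ed L := by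
  induction L with
  | nil => simp [Ed, fden]; exact one_ne_zero
  | cons a L ih => rw [Ed_cons h]; exact mul_pos (Gl_pos _ _) (ih h.tail)

/-! ### the doubled abacus -/

/-- the doubled abacus -/
noncomputable def dbl (K : List ℤ) (k : ℕ) : Finset ℤ :=
  K.toFinset ∪ (Ico (-(k : ℤ)) 0).filter fun z => -z ∉ K

theorem mem_dbl {K : List ℤ} {k : ℕ} {z : ℤ} : z ∈ dbl K k ↔ z ∈ K ∨ (-(k : ℤ) ≤ z ∧ z < 0 ∧ -z ∉ K) := by
  unfold dbl
  rw [Finset.mem_union, List.mem_toFinset, Finset.mem_filter, Finset.mem_Ico, and_assoc]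

theorem Cor.clo {K : List ℤ} (h : Cor p K) (k : ℕ) : Clo p (-(k : ℤ)) (dbl K k) := by
  refine ⟨fun b hb => ?_, fun b hb hk => ?_⟩
  · rcases mem_dbl.1 hb with h1 | h1
    · have := h.gd.2 b h1; omega
    · exact h1.1
  · rw [mem_dbl] at hb ⊢
    rcases hb with h1 | h1
    · rcases lt_trichotomy (p : ℤ) b with h2 | h2 | h2
      · exact Or.inl (h.down b h1 h2)
      · exact absurd (h2 ▸ h1) h.notp
      · exact Or.inr ⟨hk, by omega, by rw [neg_sub]; exact h.pair b h1⟩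
    · refine Or.inr ⟨hk, by omega, fun h2 => h1.2.2 ?_⟩
      have h3 := h.down _ h2 (by omega)
      rwa [show -(b - p) - p = -b by ring] at h3

theorem Gam_dbl {K : List ℤ} (h : Gd K) {k : ℕ} (hk : ∀ a ∈ K, a ≤ k) (v : ℤ) :
    Gam (dbl K k) v * Pp K.toFinset v = Gam K.toFinset v * Gam (Ico (-(k : ℤ)) 0) v := by
  unfold Gam Pp dbl
  rw [Finset.prod_union (by
    rw [Finset.disjoint_left]
    intro z h1 h2
    have := h.2 z (List.mem_toFinset.1 h1)
    rw [Finset.mem_filter, Finset.mem_Ico] at h2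
    omega), mul_assoc, ← Finset.prod_filter_not_mul_prod_filter (Ico (-(k : ℤ)) 0) (fun z => -z ∈ K)]
  congr 2
  refine Finset.prod_bij (fun b _ => -b) ?_ ?_ ?_ ?_
  · intro b hb
    rw [List.mem_toFinset] at hb
    rw [Finset.mem_filter, Finset.mem_Ico, neg_neg]
    have := h.2 b hb
    have := hk b hb
    exact ⟨by omega, hb⟩
  · intro a _ b _ hab
    omega
  · intro z hz
    exact ⟨-z, List.mem_toFinset.2 (Finset.mem_filter.1 hz).2, neg_neg z⟩
  · intro b _
    rfl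

theorem gq_dbl_pos {K : List ℤ} (h : Gd K) {k : ℕ} (hk : ∀ a ∈ K, a ≤ k) {v : ℤ} (hv : 0 ≤ v) :
    gq (dbl K k) (-(k : ℤ)) v = Gl K.toFinset v := by
  have h1 := Gam_dbl h hk v
  have h2 := Gam_Ico k hv
  rw [zero_sub, sub_zero] at h2
  have h3 : (v - -(k : ℤ)).toNat = v.toNat + k := by omega
  unfold gq Gl
  rw [h3, ← h2, div_eq_div_iff (by exact_mod_cast mul_ne_zero (Gam_pos _ _).ne' (Nat.factorial_ne_zero _))
    (by exact_mod_cast mul_ne_zero (Nat.factorial_ne_zero _) (Pp_pos _ _).ne')]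
  have h4 := congrArg (Nat.cast : ℕ → ℚ) h1
  push_cast at h4 ⊢
  linear_combination ((v.toNat.factorial : ℕ) : ℚ) * h4

theorem gq_dbl_neg {K : List ℤ} (h : Gd K) {k : ℕ} (hk : ∀ a ∈ K, a ≤ k) {c : ℤ} (hc : 0 < c) (hck : c ≤ k) :
    Gl K.toFinset c * c * gq (dbl K k) (-(k : ℤ)) (-c) = 1 := by
  obtain ⟨d, rfl⟩ : ∃ d : ℕ, c = d + 1 := ⟨(c - 1).toNat, by omega⟩
  obtain ⟨e, rfl⟩ : ∃ e : ℕ, k = d + 1 + e := ⟨k - (d + 1), by omega⟩
  have h1 := Gam_dbl h hk (-((d : ℤ) + 1))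
  have h2 := Gam_Ico e (le_refl (-((d : ℤ) + 1)))
  have h3 := Gam_Ico' d (-((d : ℤ) + 1))
  rw [sub_self, Int.toNat_zero, Nat.factorial_zero, mul_one, zero_add] at h2
  have h4 : Gam (Ico (-((d + 1 + e : ℕ) : ℤ)) 0) (-((d : ℤ) + 1)) = e.factorial * d.factorial := by
    rw [← h2, ← h3]
    unfold Gam
    rw [← Finset.prod_union (by
      rw [Finset.disjoint_left]
      intro z h1 h2
      rw [Finset.mem_Ico] at h1 h2
      omega)]
    symm
    refine Finset.prod_subset (fun z hz => ?_) (fun z hz hz' => ?_)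
    · rw [Finset.mem_union, Finset.mem_Ico, Finset.mem_Ico] at hz
      rw [Finset.mem_Ico]
      omega
    · rw [Finset.mem_union, Finset.mem_Ico, Finset.mem_Ico] at hz'
      rw [Finset.mem_Ico] at hz
      have : z = -((d : ℤ) + 1) := by omega
      rw [this, ph_self]
  have h5 : Pp K.toFinset (-((d : ℤ) + 1)) = Gam K.toFinset ((d : ℤ) + 1) := by
    refine Finset.prod_congr rfl fun b _ => ?_
    unfold ph
    split_ifs <;> omega
  have h6 : Gam K.toFinset (-((d : ℤ) + 1)) = Pp K.toFinset ((d : ℤ) + 1) := by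
    refine Finset.prod_congr rfl fun b _ => ?_
    unfold ph
    split_ifs <;> omega
  rw [h4, h5, h6] at h1
  have h7 : (-((d : ℤ) + 1) - -((d + 1 + e : ℕ) : ℤ)).toNat = e := by omega
  have h8 : ((d : ℤ) + 1).toNat = d + 1 := by omega
  unfold gq Gl
  rw [h7, h8, Nat.factorial_succ]
  have h9 := congrArg (Nat.cast : ℕ → ℚ) h1
  have h10 : ((Pp K.toFinset ((d : ℤ) + 1) : ℕ) : ℚ) ≠ 0 := by exact_mod_cast (Pp_pos _ _).ne'
  have h11 : ((d.factorial : ℕ) : ℚ) ≠ 0 := by exact_mod_cast Nat.factorial_ne_zero _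
  have h12 : ((e.factorial : ℕ) : ℚ) ≠ 0 := by exact_mod_cast Nat.factorial_ne_zero _
  have h13 : ((d : ℚ) + 1) ≠ 0 := by positivity
  push_cast at h9 ⊢
  field_simp
  linear_combination h9

theorem exists_bound (K : List ℤ) (m : ℕ) : ∃ k : ℕ, m ≤ k ∧ ∀ a ∈ K, a ≤ k := by
  induction K with
  | nil => exact ⟨m, le_rfl, fun _ h => absurd h List.not_mem_nil⟩
  | cons a K ih =>
    obtain ⟨k, h1, h2⟩ := ih
    refine ⟨k + a.toNat, by omega, fun b hb => ?_⟩
    rcases List.mem_cons.1 hb with rfl | hb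
    · omega
    · have := h2 b hb; omega

theorem exists_max {K : List ℤ} (h : K ≠ []) : ∃ x ∈ K, ∀ a ∈ K, a ≤ x := by
  obtain ⟨x, hx, h1⟩ := Finset.exists_max_image K.toFinset id (by
    obtain ⟨a, ha⟩ := List.exists_mem_of_ne_nil K h
    exact ⟨a, List.mem_toFinset.2 ha⟩)
  exact ⟨x, List.mem_toFinset.1 hx, fun a ha => h1 a (List.mem_toFinset.2 ha)⟩

theorem Cor.val [hp : Fact p.Prime] {K : List ℤ} (h : Cor p K) : padicValRat p (Ed K) = 0 := by
  obtain ⟨m, hm⟩ : ∃ m, K.length = m := ⟨_, rfl⟩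
  induction m generalizing K with
  | zero =>
    rw [List.length_eq_zero_iff.1 hm]
    have : Ed [] = 1 := by
      unfold Ed fden
      rw [show ratio [] = 1 from rfl]; simp
    rw [this, padicValRat.one]
  | succ m ih =>
    have hq := hp.out.pos
    obtain ⟨x, hx, hmax⟩ := exists_max (K := K) (by rintro rfl; simp at hm)
    have h1 := List.perm_cons_erase hx
    have h2 := h.gd.perm h1
    have hx0 := h.gd.2 x hx
    have hnx : x ∉ K.erase x := (List.nodup_cons.1 h2.1).1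
    have h3 : Cor p (K.erase x) := by
      refine ⟨h.gd.erase x, fun a ha hlt => ?_, fun ha => h.notp (List.mem_of_mem_erase ha),
        fun a ha hb => h.pair a (List.mem_of_mem_erase ha) (List.mem_of_mem_erase hb)⟩
      have h4 := List.mem_of_mem_erase ha
      have h5 := hmax a h4
      exact (List.mem_erase_of_ne (by omega)).2 (h.down a h4 hlt)
    obtain ⟨k, hk1, hk2⟩ := exists_bound (K.erase x) p
    have h4 : x - p ∈ tops p (-(k : ℤ)) (dbl (K.erase x) k) := by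
      rw [mem_tops, sub_add_cancel, mem_dbl, mem_dbl]
      refine ⟨Or.inl ?_, fun h5 => h5.elim hnx (by omega)⟩
      rcases lt_trichotomy (p : ℤ) x with h5 | h5 | h5
      · exact Or.inl ((List.mem_erase_of_ne (by omega)).2 (h.down x hx h5))
      · exact absurd (h5 ▸ hx) h.notp
      · refine Or.inr ⟨by omega, by omega, fun h6 => h.pair x hx ?_⟩
        rw [neg_sub] at h6
        exact List.mem_of_mem_erase h6
    have h5 := (h3.clo k).val_gq h4
    rw [sub_add_cancel, gq_dbl_pos h3.gd hk2 hx0.le] at h5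
    rw [Ed_perm h1, Ed_cons h2, padicValRat.mul (Gl_pos _ _).ne' (Ed_pos h3.gd).ne', h5,
      ih h3 (by rw [List.length_erase_of_mem hx, hm]; rfl), add_zero]

/-- the valuation of the degree -/
theorem val_X [hp : Fact p.Prime] {n : ℕ} {L : List ℤ} (hL : Strict L) (hs : L.sum = n) :
    ((X (Multiset.replicate n 1) L).natAbs.factorization p : ℤ) =
      n.factorial.factorization p + padicValRat p (Ed L) := by
  have h1 := congrArg (padicValRat p) (X_Ed hL hs)
  rw [padicValRat.mul (by exact_mod_cast Nat.factorial_ne_zero _) (Ed_pos (gd_of_strict hL)).ne', padicValRat.of_int,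
    padicValRat.of_nat] at h1
  rw [Nat.factorization_def _ hp.out, Nat.factorization_def _ hp.out]
  exact h1

theorem Cor.wt [hp : Fact p.Prime] (hp2 : p ≠ 2) {K : List ℤ} (h : Cor p K) : wt p K = 0 := by
  obtain ⟨L, hL, h1⟩ := h.gd.exists_strict
  obtain ⟨n, hn⟩ := Int.eq_ofNat_of_zero_le (gd_of_strict hL).sum_nonneg
  have h2 := val_X_ones hp2 n hL hn
  have h3 := wt_nonneg' (q := p) hL
  rw [val_X hL hn, ← Ed_perm h1, h.val] at h2
  rw [wt_perm h1]
  omega

end Cfsg.Agent.BZ.Alt
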