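import Cfsg.Agent.BZ.Alt.Bar

/-!
# BZ/Alt: the hooks on the highest runner of a bar core (helper31)

`exists_two` : two labels of height zero with different degrees (weight at least two);
`exists_pos` : a label of positive height (weight at least `p`).
-/

set_option autoImplicit false
set_option linter.unusedSectionVars false
set_option maxHeartbeats 400000

namespace Cfsg.Agent.BZ.Alt

open Finset Cfsg.Agent.H614 Cfsg.Agent.H614.Spin

variable {p : ℕ} {K : List ℤ} {x : ℤ}

/-- the highest bead -/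
structure Top (p : ℕ) (K : List ℤ) (x : ℤ) : Prop where
  odd : Odd p
  three : 3 ≤ p
  cor : Cor p K
  le : ∀ a ∈ K, a ≤ x
  mem : x ∈ K ∨ (x = -1 ∧ K = [])

theorem Cor.exists_top (h : Cor p K) (hp : Odd p) (h3 : 3 ≤ p) : ∃ x, Top p K x := by
  by_cases hK : K = []
  · exact ⟨-1, hp, h3, h, by rw [hK]; simp, Or.inr ⟨rfl, hK⟩⟩
  · obtain ⟨x, h1, h2⟩ := exists_max hK
    exact ⟨x, hp, h3, h, h2, Or.inl h1⟩

theorem Top.ge (h : Top p K x) : -1 ≤ x := by
  rcases h.mem with h1 | h1
  · have := h.cor.gd.2 x h1; omega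
  · omega

theorem Top.not_dvd (h : Top p K x) : ¬ (p : ℤ) ∣ x := by
  rcases h.mem with h1 | h1
  · exact h.cor.not_dvd h.odd.pos h1
  · rw [h1.1, dvd_neg]
    intro h2
    have h3 := Int.le_of_dvd one_pos h2
    have := h.three
    omega

theorem Top.ne1 (h : Top p K x) (c : ℤ) : x + p * c ≠ 0 := fun e =>
  h.not_dvd ⟨-c, by linear_combination e⟩

theorem Top.ne2 (h : Top p K x) (c : ℤ) : 2 * x + p * c ≠ 0 := fun e => by
  obtain ⟨k, hk⟩ := h.odd
  refine h.not_dvd ⟨x + k * c, ?_⟩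
  have : (p : ℤ) = 2 * k + 1 := by exact_mod_cast hk
  linear_combination (-x) * this - k * e

theorem Top.bead_pos (h : Top p K x) (j : ℕ) (hs : 0 < x - p * j) : x - p * j ∈ K := by
  rcases h.mem with h1 | h1
  · exact h.cor.iter h1 j hs
  · have : (0 : ℤ) ≤ p * j := by positivity
    omega

theorem Top.bead_neg (h : Top p K x) (j : ℤ) : -(x - p * j) ∉ K := by
  intro h2
  rcases h.mem with h1 | h1
  · exact h.cor.not_dvd_add h.odd.pos h1 h2 ⟨j, by ring⟩
  · rw [h1.2] at h2; exact List.not_mem_nil h2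

/-- a hole at the position `s` -/
def hol (K : List ℤ) (s : ℤ) : List ℤ := if 0 < s then K.erase s else (-s) :: K

theorem Top.gd_hol (h : Top p K x) (j : ℕ) : Gd (hol K (x - p * j)) := by
  unfold hol
  split_ifs with hs
  · exact h.cor.gd.erase _
  · have := h.ne1 (-j)
    exact h.cor.gd.cons (by rw [mul_neg] at this; omega) (h.bead_neg j)

theorem Top.gd (h : Top p K x) (i j : ℕ) : Gd ((x + p * (i + 1 : ℕ)) :: hol K (x - p * j)) := by
  have h1 : (p : ℤ) ≤ p * (i + 1 : ℕ) := by
    push_cast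
    have : (0 : ℤ) ≤ p * i := by positivity
    linarith
  have h2 := h.ge
  have h3 := h.three
  refine (h.gd_hol j).cons (by omega) fun h4 => ?_
  unfold hol at h4
  split_ifs at h4
  · have := h.le _ (List.mem_of_mem_erase h4)
    omega
  · rcases List.mem_cons.1 h4 with h4 | h4
    · exact h.ne2 ((i + 1 : ℕ) - j) (by linear_combination h4)
    · have := h.le _ h4
      omega

theorem Top.not_dvd_mem (h : Top p K x) (i j : ℕ) :
    ∀ a ∈ (x + p * (i + 1 : ℕ)) :: hol K (x - p * j), ¬ (p : ℤ) ∣ a := by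
  intro a ha
  rcases List.mem_cons.1 ha with rfl | ha
  · exact fun h1 => h.not_dvd ((dvd_add_left (dvd_mul_right _ _)).1 h1)
  · unfold hol at ha
    split_ifs at ha
    · exact h.cor.not_dvd h.odd.pos (List.mem_of_mem_erase ha)
    · rcases List.mem_cons.1 ha with rfl | ha
      · exact fun h1 => h.not_dvd ((dvd_sub_left (dvd_mul_right _ _)).1 (dvd_neg.1 h1))
      · exact h.cor.not_dvd h.odd.pos ha

theorem Top.rch_low (h : Top p K x) (j : ℕ) : Rch p (j + 1) ((x + p * (0 + 1 : ℕ)) :: hol K (x - p * j)) K := by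
  have h3 := h.three
  induction j with
  | zero =>
    refine Rch.succ h.cor.gd ?_ (Rch.zero (List.Perm.refl _))
    simp only [zero_add, Nat.cast_one, mul_one, Nat.cast_zero, mul_zero, sub_zero]
    unfold hol
    rcases h.mem with h1 | h1
    · have h2 := h.cor.gd.2 x h1
      rw [if_pos h2]
      exact Or.inl ⟨x + p, K.erase x, by omega, List.Perm.refl _, by
        rw [add_sub_cancel_right]; exact List.perm_cons_erase h1⟩
    · rw [if_neg (by omega)]
      refine Or.inr (Or.inr ⟨x + p, ?_⟩)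
      rw [show (p : ℤ) - (x + p) = -x by ring]
  | succ j ih =>
    refine Rch.succ (h.gd 0 j) ?_ ih
    generalize x + p * (0 + 1 : ℕ) = u
    have e : x - p * j = x - p * (j + 1 : ℕ) + p := by push_cast; ring
    have b1 := h.bead_pos (j + 1)
    have b2 := h.bead_pos j
    have n1 := h.ne1 (-(j + 1 : ℕ))
    have n2 := h.ne1 (-j)
    rw [mul_neg, ← sub_eq_add_neg] at n1 n2
    rw [e] at b2 n2 ⊢
    generalize x - p * (j + 1 : ℕ) = s at *
    unfold hol
    by_cases h1 : 0 < s
    · rw [if_pos h1, if_pos (by omega)]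
      refine Or.inl ⟨s + p, u :: (K.erase s).erase (s + p), by omega, ?_, ?_⟩
      · exact ((List.perm_cons_erase ((List.mem_erase_of_ne (by omega)).2 (b2 (by omega)))).cons u).trans
          (List.Perm.swap _ _ _)
      · rw [add_sub_cancel_right, List.erase_comm]
        exact ((List.perm_cons_erase ((List.mem_erase_of_ne (by omega)).2 (b1 h1))).cons u).trans
          (List.Perm.swap _ _ _)
    · rw [if_neg h1]
      by_cases h2 : 0 < s + p
      · rw [if_pos h2]
        refine Or.inr (Or.inr ⟨s + p, ?_⟩)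
        rw [show (p : ℤ) - (s + p) = -s by ring]
        refine (((List.perm_cons_erase (b2 h2)).cons (-s)).cons u).trans ?_
        exact ((List.Perm.swap _ _ _).cons u).trans ((List.Perm.swap _ _ _).trans ((List.Perm.swap _ _ _).cons _))
      · rw [if_neg h2]
        refine Or.inl ⟨-s, u :: K, by omega, List.Perm.swap _ _ _, ?_⟩
        rw [show -s - (p : ℤ) = -(s + p) by ring]
        exact List.Perm.swap _ _ _

theorem Top.rch (h : Top p K x) (i j : ℕ) :
    Rch p (j + 1 + i) ((x + p * (i + 1 : ℕ)) :: hol K (x - p * j)) K := by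
  induction i with
  | zero => exact h.rch_low j
  | succ i ih =>
    refine Rch.succ (h.gd i j) (Or.inl ⟨_, _, ?_, List.Perm.refl _, ?_⟩) ih
    · have := h.ge
      have := h.three
      have : (0 : ℤ) ≤ p * i := by positivity
      push_cast
      linarith
    · rw [show x + p * (i + 1 + 1 : ℕ) - p = x + p * (i + 1 : ℕ) by push_cast; ring]

theorem Top.mem_tops (h : Top p K x) {k : ℕ} (hk : p ≤ k) : x ∈ tops p (-(k : ℤ)) (dbl K k) := by
  have h1 := h.ge
  have h3 := h.three
  rw [Alt.mem_tops, mem_dbl, mem_dbl]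
  refine ⟨Or.inl ?_, fun h2 => h2.elim (fun h4 => by have := h.le _ h4; omega) (by omega)⟩
  rcases h.mem with h2 | h2
  · exact Or.inl h2
  · exact Or.inr ⟨by omega, by omega, by rw [h2.2]; exact List.not_mem_nil⟩

/-- the product along a hook -/
noncomputable def hk (p : ℕ) (K : List ℤ) (k : ℕ) (s : ℤ) (w : ℕ) : ℕ :=
  ∏ t ∈ range w, Gam (tops p (-(k : ℤ)) (dbl K k)) (s + p * t)

theorem hk_pos (k : ℕ) (s : ℤ) (w : ℕ) : 0 < hk p K k s w := Finset.prod_pos fun _ _ => Gam_pos _ _

/-- the degree of a hook label -/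
theorem Top.Ed_hook (h : Top p K x) (i j : ℕ) {k : ℕ} (hk1 : ∀ a ∈ K, a ≤ k) (hk2 : p * j + p ≤ k) :
    ∃ e : ℕ, ((x + p * (i + 1 : ℕ)) :: hol K (x - p * j)).length = K.length + 2 * e ∧
      2 * Ed ((x + p * (i + 1 : ℕ)) :: hol K (x - p * j)) * ((p * (j + 1 + i) : ℕ) * (x - p * j).natAbs *
        hk p K k (x - p * j) (j + 1 + i) : ℕ) = 2 ^ e * Ed K * (x + p * (i + 1 : ℕ) + (x - p * j)).natAbs := by
  have h1 := h.ge
  have h3 := h.three
  have hg := h.gd i j
  have hk2' : (p : ℤ) * j + p ≤ k := by exact_mod_cast hk2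
  have h4 := (h.cor.clo k).iterq (v := x - p * j) (by omega) (j + 1 + i)
  have e1 : x - p * j + p * (j + 1 + i : ℕ) = x + p * (i + 1 : ℕ) := by push_cast; ring
  have hv := hg.2 _ List.mem_cons_self
  rw [e1, gq_dbl_pos h.cor.gd hk1 hv.le] at h4
  change _ = _ * ((hk p K k (x - p * j) (j + 1 + i) : ℕ) : ℚ) at h4
  have b1 := h.bead_pos j
  have b2 := h.bead_neg j
  have n1 := h.ne1 (-j)
  rw [mul_neg, ← sub_eq_add_neg] at n1
  have e2 : x + p * (i + 1 : ℕ) = (x - p * j) + (p * (j + 1 + i) : ℕ) := by push_cast; ring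
  have hN : 0 < p * (j + 1 + i) := Nat.mul_pos (by omega) (by omega)
  have hsk : -(x - p * j) ≤ k := by omega
  generalize x - p * j = s at *
  generalize x + p * (i + 1 : ℕ) = v at *
  generalize p * (j + 1 + i) = N at *
  generalize hk p K k s (j + 1 + i) = A at *
  unfold hol at hg ⊢
  by_cases hs : 0 < s
  · rw [if_pos hs] at hg ⊢
    have hm := b1 hs
    have h5 := List.perm_cons_erase hm
    have h6 := h.cor.gd.perm h5
    have h7 : K.toFinset = insert s (K.erase s).toFinset := by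
      rw [List.toFinset_eq_of_perm _ _ h5, List.toFinset_cons]
    have h8 : s ∉ (K.erase s).toFinset := fun h => (List.nodup_cons.1 h6.1).1 (List.mem_toFinset.1 h)
    refine ⟨0, by rw [h5.length_eq]; rfl, ?_⟩
    rw [gq_dbl_pos h.cor.gd hk1 hs.le, h7, Gl_insert h8, Gl_insert h8, ph_self, ph_ne (v := s) (by omega),
      ph_ne (v := v) (by omega), ph_ne (v := v) (z := -s) (by omega)] at h4
    rw [Ed_cons hg, Ed_perm h5, Ed_cons h6]
    have c1 : ((s - -s).natAbs : ℚ) = 2 * s := by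
      rw [Nat.cast_natAbs, abs_of_pos (by omega)]; push_cast; ring
    have c2 : ((v - s).natAbs : ℚ) = N := by
      rw [show v - s = N by omega, Int.natAbs_natCast]
    have c3 : ((v - -s).natAbs : ℚ) = v + s := by
      rw [Nat.cast_natAbs, abs_of_pos (by omega)]; push_cast; ring
    have c4 : ((v + s).natAbs : ℚ) = v + s := by
      rw [Nat.cast_natAbs, abs_of_pos (by omega)]; push_cast; ring
    have c5 : (s.natAbs : ℚ) = s := by rw [Nat.cast_natAbs, abs_of_pos hs]
    rw [c1, c2, c3] at h4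
    push_cast at h4 ⊢
    rw [c4, c5]
    have z1 : (s : ℚ) ≠ 0 := by exact_mod_cast hs.ne'
    have z2 : (v : ℚ) + s ≠ 0 := by exact_mod_cast (show v + s ≠ 0 by omega)
    field_simp at h4
    linear_combination (-Ed (K.erase s)) * h4
  · rw [if_neg hs] at hg ⊢
    refine ⟨1, rfl, ?_⟩
    have h5 := gq_dbl_neg h.cor.gd hk1 (c := -s) (by omega) hsk
    rw [neg_neg, h4] at h5
    rw [Ed_cons hg, Ed_cons hg.tail, List.toFinset_cons, Gl_insert (fun h => b2 (List.mem_toFinset.1 h)), neg_neg,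
      ph_ne (v := v) (z := s) (by omega), ph_ne (v := v) (z := -s) (fun e =>
        (List.nodup_cons.1 hg.1).1 (e ▸ List.mem_cons_self)), sub_neg_eq_add, show v - s = N by omega,
      Int.natAbs_natCast]
    have c5 : (s.natAbs : ℚ) = -s := by rw [Nat.cast_natAbs, abs_of_neg (by omega)]; push_cast; ring
    have z1 : (N : ℚ) ≠ 0 := by exact_mod_cast hN.ne'
    push_cast at h5 ⊢
    rw [c5]
    field_simp
    linear_combination (((v + s).natAbs : ℕ) : ℚ) * Ed K * h5

section Val

variable [hp : Fact p.Prime]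

theorem val_natAbs {a : ℤ} (h : ¬ (p : ℤ) ∣ a) : padicValNat p a.natAbs = 0 :=
  padicValNat.eq_zero_of_not_dvd fun h1 => h (Int.natCast_dvd.2 h1)

theorem Top.val_two (h : Top p K x) : padicValRat p (2 : ℚ) = 0 := by
  have h1 : padicValNat p 2 = 0 := padicValNat.eq_zero_of_not_dvd fun h1 => by
    have := Nat.le_of_dvd two_pos h1
    have := h.three
    omega
  have h2 := padicValRat.of_nat (p := p) (n := 2)
  rw [h1] at h2
  exact_mod_cast h2

theorem Top.val_hook (h : Top p K x) (i j : ℕ) :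
    padicValRat p (Ed ((x + p * (i + 1 : ℕ)) :: hol K (x - p * j))) =
      -((j + 1 + i : ℕ) + padicValNat p (j + 1 + i) + padicValNat p j.factorial + padicValNat p i.factorial : ℕ) := by
  obtain ⟨k, hk2, hk1⟩ := exists_bound K (p * j + p)
  obtain ⟨e, -, h1⟩ := h.Ed_hook i j hk1 hk2
  have h2 := (h.cor.clo k).val_hook (h.mem_tops (by omega)) j i
  change padicValNat p (hk p K k (x - p * j) (j + 1 + i)) = _ at h2
  have n1 : ¬ (p : ℤ) ∣ x - p * j := fun h1 => h.not_dvd ((dvd_sub_left (dvd_mul_right _ _)).1 h1)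
  have n2 : ¬ (p : ℤ) ∣ x + p * (i + 1 : ℕ) + (x - p * j) := by
    rintro ⟨c, hc⟩
    exact h.ne2 ((i + 1 : ℕ) - j - c) (by linear_combination hc)
  have z1 : (x - p * j).natAbs ≠ 0 := fun e => n1 (by rw [Int.natAbs_eq_zero.1 e]; exact dvd_zero _)
  have z2 : (x + p * (i + 1 : ℕ) + (x - p * j)).natAbs ≠ 0 := fun e =>
    n2 (by rw [Int.natAbs_eq_zero.1 e]; exact dvd_zero _)
  have z3 : p * (j + 1 + i) ≠ 0 := (Nat.mul_pos hp.out.pos (by omega)).ne'
  have z4 := (hk_pos (p := p) (K := K) k (x - p * j) (j + 1 + i)).ne'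
  have z5 := (Ed_pos (h.gd i j)).ne'
  have z6 := (Ed_pos h.cor.gd).ne'
  have h3 := congrArg (padicValRat p) h1
  rw [padicValRat.mul (mul_ne_zero two_ne_zero z5) (by exact_mod_cast mul_ne_zero (mul_ne_zero z3 z1) z4),
    padicValRat.mul two_ne_zero z5, padicValRat.mul (mul_ne_zero (pow_ne_zero _ two_ne_zero) z6) (by exact_mod_cast z2),
    padicValRat.mul (pow_ne_zero _ two_ne_zero) z6, padicValRat.pow, h.val_two, h.cor.val,
    padicValRat.of_nat, padicValRat.of_nat, val_natAbs n2, padicValNat.mul (mul_ne_zero z3 z1) z4,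
    padicValNat.mul z3 z1, val_natAbs n1, h2, padicValNat.mul hp.out.ne_zero (by omega), padicValNat_self] at h3
  push_cast at h3 ⊢
  linarith

theorem val_succ_factorial (m : ℕ) :
    padicValNat p (m + 1).factorial = padicValNat p (m + 1) + padicValNat p m.factorial := by
  rw [Nat.factorial_succ, padicValNat.mul (Nat.succ_ne_zero m) (Nat.factorial_ne_zero m)]

/-- **a label of positive height** -/
theorem Top.exists_pos (h : Top p K x) {w : ℕ} (hw : p ≤ w) :
    ∃ L, Gd L ∧ Rch p w L K ∧ -((w + padicValNat p w.factorial : ℕ) : ℤ) < padicValRat p (Ed L) := by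
  have h3 := h.three
  obtain ⟨m, rfl⟩ : ∃ m, w = m + 1 := ⟨w - 1, by omega⟩
  by_cases hd : p ∣ m + 1
  · obtain ⟨i, rfl⟩ : ∃ i, m = 0 + 1 + i := ⟨m - 1, by omega⟩
    have h1 := h.not_dvd_mem i 0
    have h2 : Gd ((p : ℤ) :: (x + p * (i + 1 : ℕ)) :: hol K (x - p * (0 : ℕ))) :=
      (h.gd i 0).cons (by omega) fun h4 => h1 _ h4 (dvd_refl _)
    refine ⟨_, h2, Rch.succ (h.gd i 0) (Or.inr (Or.inl (List.Perm.refl _))) (h.rch i 0), ?_⟩
    rw [Ed_cons h2, padicValRat.mul (Gl_pos _ _).ne' (Ed_pos (h.gd i 0)).ne', h.val_hook]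
    generalize (x + p * (i + 1 : ℕ)) :: hol K (x - p * (0 : ℕ)) = L at h1
    have h4 : padicValNat p (Pp L.toFinset p) = 0 := by
      unfold Pp
      rw [H614.padicValNat_finset_prod _ _ (fun b _ => (ph_pos _ _).ne')]
      refine Finset.sum_eq_zero fun b hb => ?_
      unfold ph
      split_ifs
      · exact padicValNat_one_right _
      · refine val_natAbs fun h5 => h1 b (List.mem_toFinset.1 hb) ?_
        rw [sub_neg_eq_add] at h5
        exact (dvd_add_right (dvd_refl _)).1 h5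
    have h5 : padicValNat p p.factorial = 1 := by
      rw [H614.val_factorial, Nat.div_self hp.out.pos]; simp
    have h6 : -1 ≤ padicValRat p (Gl L.toFinset p) := by
      unfold Gl
      rw [padicValRat.div (by exact_mod_cast (Gam_pos _ _).ne')
        (by exact_mod_cast mul_ne_zero (Nat.factorial_ne_zero _) (Pp_pos _ _).ne'),
        padicValRat.mul (by exact_mod_cast Nat.factorial_ne_zero _) (by exact_mod_cast (Pp_pos _ _).ne'),
        padicValRat.of_nat, padicValRat.of_nat, padicValRat.of_nat, h4, Int.toNat_natCast, h5]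
      omega
    have h7 : 1 ≤ padicValNat p (0 + 1 + i + 1) := one_le_padicValNat_of_dvd (by omega) hd
    have h8 := val_succ_factorial (p := p) (0 + 1 + i)
    have h9 := val_succ_factorial (p := p) i
    rw [show i + 1 = 0 + 1 + i by ring] at h9
    rw [Nat.factorial_zero, padicValNat_one_right]
    omega
  · have h1 := Nat.div_add_mod m p
    have h2 := Nat.mod_lt m hp.out.pos
    have h4 : m % p + 1 < p := by
      by_contra hcon
      exact hd ⟨m / p + 1, by rw [mul_add]; omega⟩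
    obtain ⟨q, hq⟩ : ∃ q, m / p = q + 1 := by
      refine ⟨m / p - 1, ?_⟩
      have : 0 < m / p := Nat.div_pos (by
        by_contra hcon
        exact hd ⟨1, by omega⟩) hp.out.pos
      omega
    rw [hq, mul_add, mul_one] at h1
    obtain ⟨i, hi⟩ : ∃ i, i + 1 = p * q + p := ⟨p * q + p - 1, by omega⟩
    have h5 := h.val_hook i (m % p + 1)
    have h6 := h.rch i (m % p + 1)
    have e : m % p + 1 + 1 + i = m + 1 := by omega
    rw [e] at h5 h6
    refine ⟨_, h.gd i _, h6, ?_⟩
    rw [h5, val_succ_factorial m]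
    have h7 : padicValNat p (m % p + 1).factorial = 0 :=
      padicValNat.eq_zero_of_not_dvd (by rw [hp.out.dvd_factorial]; omega)
    have h8 : i / p = q := by
      rw [Nat.div_eq_iff hp.out.pos, mul_comm]; omega
    have h9 := H614.val_factorial (p := p) i
    have h10 := H614.val_factorial (p := p) m
    rw [h8] at h9
    rw [hq, val_succ_factorial] at h10
    omega

end Val

theorem ph_le {x y d : ℤ} (hy : y ≤ x) (hd : 0 < d) : ph (x - d) y ≤ ph (x + d) y := by
  unfold ph
  split_ifs <;> omega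

/-- the comparison of the two extreme hooks -/
theorem Top.lt (h : Top p K x) {k : ℕ} (m : ℕ) (hk1 : x + p ≤ k) (hk2 : p ≤ k) :
    (2 * x + p * (m + 2 : ℕ)).natAbs * ((x - p * (m + 1 : ℕ)).natAbs * hk p K k (x - p * (m + 1 : ℕ)) (m + 2)) <
      (2 * x - p * m).natAbs * (x.natAbs * hk p K k x (m + 2)) := by
  classical
  have h1 := h.ge
  have h3 := h.three
  set T := tops p (-(k : ℤ)) (dbl K k) with hT
  have hy0 : -(p : ℤ) ∈ T := by
    rw [hT, Alt.mem_tops, mem_dbl, mem_dbl, neg_neg]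
    refine ⟨Or.inl (Or.inr ⟨by omega, by omega, h.cor.notp⟩), fun h2 => h2.elim (fun h4 => ?_) (by omega)⟩
    have := h.cor.gd.2 _ h4
    omega
  have hy1 : -x - p ∈ T := by
    rw [hT, Alt.mem_tops, mem_dbl, mem_dbl]
    refine ⟨Or.inl (Or.inr ⟨by omega, by omega, fun h4 => ?_⟩), fun h2 => ?_⟩
    · have := h.le _ h4; omega
    · rw [sub_add_cancel, neg_neg] at h2
      rcases h.mem with h4 | h4
      · have := h.cor.gd.2 _ h4
        exact h2.elim (fun h5 => by have := h.cor.gd.2 _ h5; omega) (fun h5 => h5.2.2 h4)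
      · rw [h4.2] at h2
        exact h2.elim List.not_mem_nil (by omega)
  have hx0 : x ≠ 0 := by have := h.ne1 0; omega
  have hle : ∀ y ∈ T, y ≤ x := by
    intro y hy
    rw [hT, Alt.mem_tops, mem_dbl] at hy
    rcases hy.1 with (h4 | h4) | h4
    · exact h.le y h4
    · omega
    · omega
  set R := (T.erase (-(p : ℤ))).erase (-x - p) with hR
  have hA : ∀ c : ℤ, Gam T (x + p * c) =
      (x + p * (c + 1)).natAbs * ((2 * x + p * (c + 1)).natAbs * Gam R (x + p * c)) := by
    intro c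
    unfold Gam
    rw [← Finset.mul_prod_erase T _ hy0, ← Finset.mul_prod_erase (T.erase _) _
      (Finset.mem_erase.2 ⟨show -x - p ≠ -(p : ℤ) by omega, hy1⟩),
      ph_ne (fun e => h.ne1 (c + 1) (by linear_combination -e)),
      ph_ne (fun e => h.ne2 (c + 1) (by linear_combination -e))]
    congr 2
    · ring
    · congr 1; ring
  have e1 : hk p K k x (m + 2) = Gam T x * ((∏ t ∈ range (m + 1), (x + p * (t + 2)).natAbs) *
      ((∏ t ∈ range m, (2 * x + p * (t + 2)).natAbs) * (2 * x + p * (m + 2 : ℕ)).natAbs) *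
        ∏ t ∈ range (m + 1), Gam R (x + p * (t + 1))) := by
    unfold hk
    rw [Finset.prod_range_succ', mul_comm]
    congr 1
    · simp only [Nat.cast_zero, mul_zero, add_zero, hT]
    · have e : (2 * x + p * (m + 2 : ℕ)).natAbs = (2 * x + p * (m + 2)).natAbs := by push_cast; rfl
      rw [e, ← Finset.prod_range_succ (fun t : ℕ => (2 * x + p * (t + 2)).natAbs), ← Finset.prod_mul_distrib,
        ← Finset.prod_mul_distrib]
      refine Finset.prod_congr rfl fun t _ => ?_
      rw [← hT, hA, mul_assoc]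
      push_cast
      rw [add_assoc (t : ℤ) 1 1]
      rfl
  have e2 : (x - p * (m + 1 : ℕ)).natAbs * hk p K k (x - p * (m + 1 : ℕ)) (m + 2) =
      Gam T x * (x.natAbs * (∏ t ∈ range (m + 1), (x - p * (t + 1)).natAbs) *
      ((∏ t ∈ range m, (2 * x - p * t).natAbs) * (2 * x - p * m).natAbs) *
        ∏ t ∈ range (m + 1), Gam R (x - p * (t + 1))) := by
    have e3 : x.natAbs * ∏ t ∈ range (m + 1), (x - p * (t + 1)).natAbs =
        (∏ t ∈ range (m + 1), (x - p * t).natAbs) * (x - p * (m + 1 : ℕ)).natAbs := by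
      rw [← Finset.prod_range_succ (fun t : ℕ => (x - p * t).natAbs), Finset.prod_range_succ' _ (m + 1), mul_comm]
      simp
    have e4 : hk p K k (x - p * (m + 1 : ℕ)) (m + 2) = (∏ t ∈ range (m + 1), Gam T (x + p * (-(t + 1 : ℤ)))) *
        Gam T x := by
      unfold hk
      rw [Finset.prod_range_succ, ← Finset.prod_range_reflect, sub_add_cancel]
      congr 1
      refine Finset.prod_congr rfl fun t ht => ?_
      rw [Finset.mem_range] at ht
      rw [← hT, Nat.add_sub_cancel, Nat.cast_sub (by omega)]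
      congr 1
      push_cast; ring
    rw [e3, e4, ← Finset.prod_range_succ (fun t : ℕ => (2 * x - p * t).natAbs),
      Finset.prod_congr rfl fun (t : ℕ) _ => hA (-(t + 1 : ℤ)), Finset.prod_mul_distrib, Finset.prod_mul_distrib]
    have e5 : ∀ t : ℕ, x + p * (-(t + 1 : ℤ) + 1) = x - p * t := fun t => by ring
    have e6 : ∀ t : ℕ, 2 * x + p * (-(t + 1 : ℤ) + 1) = 2 * x - p * t := fun t => by ring
    have e7 : ∀ t : ℕ, x + p * (-(t + 1 : ℤ)) = x - p * (t + 1) := fun t => by ring
    simp only [e5, e6, e7]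
    ring
  have l1 : ∏ t ∈ range (m + 1), (x - p * (t + 1)).natAbs < ∏ t ∈ range (m + 1), (x + p * (t + 2)).natAbs := by
    refine Finset.prod_lt_prod_of_nonempty (fun t _ => ?_) (fun t _ => ?_) ⟨0, by simp⟩
    · have := h.ne1 (-(t + 1)); rw [mul_neg] at this; omega
    · have : (0 : ℤ) ≤ p * t := by positivity
      rw [mul_add, mul_add]; omega
  have l2 : ∏ t ∈ range m, (2 * x - p * t).natAbs ≤ ∏ t ∈ range m, (2 * x + p * (t + 2)).natAbs := by
    refine Finset.prod_le_prod' fun t _ => ?_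
    have : (0 : ℤ) ≤ p * t := by positivity
    rw [mul_add]; omega
  have l3 : ∏ t ∈ range (m + 1), Gam R (x - p * (t + 1)) ≤ ∏ t ∈ range (m + 1), Gam R (x + p * (t + 1)) := by
    refine Finset.prod_le_prod' fun t _ => Finset.prod_le_prod' fun y hy => ?_
    exact ph_le (hle y (Finset.mem_of_mem_erase (Finset.mem_of_mem_erase hy))) (by positivity)
  rw [e2, e1]
  have p1 : 0 < ∏ t ∈ range m, (2 * x - p * t).natAbs := Finset.prod_pos fun t _ => by
    have := h.ne2 (-t); rw [mul_neg] at this; omega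
  have p2 : 0 < ∏ t ∈ range (m + 1), Gam R (x - p * (t + 1)) := Finset.prod_pos fun t _ => Gam_pos _ _
  have p3 : 0 < (2 * x + p * (m + 2 : ℕ)).natAbs * (Gam T x * x.natAbs * (2 * x - p * m).natAbs) := by
    have := h.ne2 (m + 2 : ℕ)
    have := h.ne2 (-m)
    rw [mul_neg] at this
    exact Nat.mul_pos (by omega) (Nat.mul_pos (Nat.mul_pos (Gam_pos _ _) (by omega)) (by omega))
  have l4 := Nat.mul_lt_mul_of_lt_of_le (Nat.mul_lt_mul_of_lt_of_le l1 l2 (lt_of_lt_of_le p1 l2)) l3
    (lt_of_lt_of_le p2 l3)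
  have l5 := Nat.mul_lt_mul_of_pos_left l4 p3
  convert l5 using 1 <;> ring

/-- **two labels of height zero with different degrees** -/
theorem Top.exists_two [Fact p.Prime] (h : Top p K x) {w : ℕ} (hw : 2 ≤ w) :
    ∃ (L L' : List ℤ) (e e' : ℕ), Gd L ∧ Gd L' ∧ Rch p w L K ∧ Rch p w L' K ∧
      padicValRat p (Ed L) = -((w + padicValNat p w.factorial : ℕ) : ℤ) ∧
      padicValRat p (Ed L') = -((w + padicValNat p w.factorial : ℕ) : ℤ) ∧
      L.length = K.length + 2 * e ∧ L'.length = K.length + 2 * e' ∧ 2 ^ e' * Ed L ≠ 2 ^ e * Ed L' := by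
  obtain ⟨m, rfl⟩ : ∃ m, w = m + 2 := ⟨w - 2, by omega⟩
  obtain ⟨k, hk2, hk1⟩ := exists_bound K (p * (m + 1) + p + x.toNat)
  obtain ⟨e, h1, h2⟩ := h.Ed_hook (m + 1) 0 hk1 (by omega)
  obtain ⟨e', h1', h2'⟩ := h.Ed_hook 0 (m + 1) hk1 (by omega)
  have h3 := h.rch (m + 1) 0
  have h3' := h.rch 0 (m + 1)
  have h4 := h.val_hook (m + 1) 0
  have h4' := h.val_hook 0 (m + 1)
  have h5 := h.lt (k := k) m (by omega) (by omega)
  have h6 := val_succ_factorial (p := p) (m + 1)
  rw [show 0 + 1 + (m + 1) = m + 2 by ring] at h2 h3 h4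
  rw [show m + 1 + 1 + 0 = m + 2 by ring] at h2' h3' h4'
  rw [show m + 1 + 1 = m + 2 by ring] at h6
  rw [Nat.factorial_zero, padicValNat_one_right] at h4 h4'
  refine ⟨_, _, e, e', h.gd (m + 1) 0, h.gd 0 (m + 1), h3, h3', by rw [h4, h6]; push_cast; ring,
    by rw [h4', h6]; push_cast; ring, h1, h1', fun h7 => ?_⟩
  have e1 : x + p * (m + 1 + 1 : ℕ) + (x - p * (0 : ℕ)) = 2 * x + p * (m + 2 : ℕ) := by push_cast; ring
  have e2 : x + p * (0 + 1 : ℕ) + (x - p * (m + 1 : ℕ)) = 2 * x - p * m := by push_cast; ring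
  have e3 : x - p * (0 : ℕ) = x := by simp
  rw [e1] at h2
  rw [e2] at h2'
  generalize Ed ((x + p * (m + 1 + 1 : ℕ)) :: hol K (x - p * (0 : ℕ))) = E at h2 h7
  generalize Ed ((x + p * (0 + 1 : ℕ)) :: hol K (x - p * (m + 1 : ℕ))) = E' at h2' h7
  rw [e3] at h2
  have h8 : (2 ^ e * 2 ^ e' * Ed K) * ((((2 * x + p * (m + 2 : ℕ)).natAbs * ((x - p * (m + 1 : ℕ)).natAbs *
      hk p K k (x - p * (m + 1 : ℕ)) (m + 2)) : ℕ) : ℚ) -
      (((2 * x - p * m).natAbs * (x.natAbs * hk p K k x (m + 2)) : ℕ) : ℚ)) = 0 := by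
    generalize (2 * x + p * (m + 2 : ℕ)).natAbs = a1 at h2 ⊢
    generalize (x - p * (m + 1 : ℕ)).natAbs = a2 at h2' ⊢
    generalize hk p K k (x - p * (m + 1 : ℕ)) (m + 2) = a3 at h2' ⊢
    generalize (2 * x - p * m).natAbs = a4 at h2' ⊢
    generalize hk p K k x (m + 2) = a5 at h2 ⊢
    generalize x.natAbs = a6 at h2 ⊢
    generalize p * (m + 2) = N at h2 h2'
    push_cast at h2 h2' ⊢
    linear_combination (-(2 : ℚ) ^ e' * a2 * a3) * h2 + (2 ^ e * a6 * a5) * h2' + (2 * N * a2 * a3 * a6 * a5) * h7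
  rcases mul_eq_zero.1 h8 with h9 | h9
  · exact (mul_pos (by positivity) (Ed_pos h.cor.gd)).ne' h9
  · rw [sub_eq_zero] at h9
    exact h5.ne (by exact_mod_cast h9)

end Cfsg.Agent.BZ.Alt
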