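import Cfsg.Agent.BZ.Alt.Link
import Cfsg.Agent.BZ.Alt.Bar
import Cfsg.Agent.H614.Spin.Final
import Cfsg.Agent.H614.DefAlt

/-!
# BZ/Alt: the labels of the spin characters and their linking (helper31)

* `Lab P b χ L c` : `χ + χ ^ t = c b X_L` on the preimage of the alternating group;
* `exists_lab` : every strict partition is the label of a character, with the exact power of two;
* `link_lab` : labels with the same bar core and weight at least two belong to the same block.
-/

set_option autoImplicit false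
set_option linter.unusedSectionVars false
set_option maxHeartbeats 400000

namespace Cfsg.Agent.BZ.Alt

open Finset Cfsg Cfsg.Agent.Characters.Core Cfsg.Agent.H614 Cfsg.Agent.H614.Spin
open Cfsg.Agent.H686.Spin
open scoped ComplexConjugate

variable {n : ℕ} {T : Type} [Group T] [Finite T] {P : T →* Equiv.Perm (Fin n)} {z : T} {b : T → ℂ}

/-- the preimage of the alternating group -/
abbrev AP (P : T →* Equiv.Perm (Fin n)) : Subgroup T := (alternatingGroup (Fin n)).comap P

/-- `L` is the label of `χ` -/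
def Lab (P : T →* Equiv.Perm (Fin n)) (b : T → ℂ) (χ : AP P → ℂ) (L : List ℤ) (c : ℂ) : Prop :=
  ∀ t : T, P t ∉ alternatingGroup (Fin n) → ∀ x y : AP P, (y : T) = t * x * t⁻¹ →
    χ x + χ y = c * (b x * (X (ty (P x)) L : ℂ))

theorem lab_of_faith (hn : 2 ≤ n) (h : SpinData n P z b) (χ : IrrCharacter (AP P))
    (hχ : ∀ x : AP P, (x : T) = z → (χ : AP P → ℂ) x ≠ (χ : AP P → ℂ) 1) :
    ∃ (L : List ℤ) (c : ℂ), Strict L ∧ L.sum = n ∧ c ≠ 0 ∧ Lab P b χ L c := by
  obtain ⟨L, hL, hs, j, k, e, he, h1⟩ := H886.Spin.exists_label_sign hn h χ hχ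
  have h2 : (2 : ℂ) ^ j ≠ 0 := pow_ne_zero _ two_ne_zero
  have h3 : e ≠ 0 := by rcases he with rfl | rfl <;> norm_num
  refine ⟨L, e * 2 ^ k / 2 ^ j, hL, hs, div_ne_zero (mul_ne_zero h3 (pow_ne_zero _ two_ne_zero)) h2,
    fun t ht x y hy => ?_⟩
  rw [div_mul_eq_mul_div, eq_div_iff h2, ← h1 t ht x y hy, mul_comm]

theorem exists_lab (hn : 2 ≤ n) (h : SpinData n P z b) {L : List ℤ} (hL : Strict L) (hLs : L.sum = n) :
    ∃ χ : IrrCharacter (AP P), Lab P b χ L (((2 : ℂ) ^ ((L.length + if Even n then 2 else 1) / 2))⁻¹) := by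
  classical
  let _ : Fintype T := Fintype.ofFinite T
  let _ : Fintype (AP P) := Fintype.ofFinite _
  obtain ⟨c₀, hc₀⟩ : ∃ c₀, c₀ = if Even n then 2 else 1 := ⟨_, rfl⟩
  have sq := h.sq
  have divT := h.divT
  have divH : ∀ (m : ℕ) (a : Fin m → ℕ), ∑ j, a j = n → ∃ θ : AP P → ℂ, IsCharacter (AP P) θ ∧
      ∀ x : AP P, b (x : T) * cnt (P (x : T)) a = 2 ^ ((#{j | a j ≠ 0} + (1 + c₀)) / 2) * θ x := by
    intro m a ha
    obtain ⟨θ, h1, h2⟩ := h.divH m a ha
    refine ⟨θ, h1, fun x => ?_⟩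
    rw [h2 x, add_assoc, hc₀]
  rw [← hc₀] at sq divT ⊢
  have hn0 : Nontrivial (Fin n) := Fin.nontrivial_iff_two_le.mpr hn
  have hindex : (AP P).index = 2 := by
    rw [Subgroup.index_comap_of_surjective _ h.surj, alternatingGroup.index_eq_two]
  have hnorm : (AP P).Normal := Subgroup.normal_of_index_eq_two hindex
  have hodd : ∀ x : T, (∀ i ∈ ty (P x), Odd i) → x ∈ AP P := fun x hx => H886.Spin.sign_of_odd hx
  have hpos : ∀ a ∈ L, 0 < a := hL.2
  have hnormT := H886.Spin.norm_sum h.surj h.z_ne h.ker sq h.van hL hLs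
  have hcardT := H886.Spin.card_T h.surj h.z_ne h.ker
  have hcardH : (Nat.card T : ℂ) = Nat.card (AP P) * 2 := by
    have := (AP P).card_mul_index
    rw [hindex] at this
    exact_mod_cast this.symm
  have hnf : ((n.factorial : ℕ) : ℂ) ≠ 0 := by exact_mod_cast n.factorial_ne_zero
  have hcH : (Nat.card (AP P) : ℂ) = n.factorial := by
    have h := hcardT.symm.trans hcardH
    linear_combination -(1 / 2 : ℂ) * h
  have hsumH : ∀ F : T → ℂ, (∀ x, x ∉ AP P → F x = 0) → ∑ x : T, F x = ∑ x : AP P, F x := by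
    intro F hF
    rw [← Finset.sum_filter_of_ne (p := fun g => g ∈ AP P)]
    · rw [← Finset.sum_subtype (univ.filter fun g => g ∈ AP P) (p := fun g => g ∈ AP P) (by simp) F]
    · intro g _ hg
      by_contra hgN
      exact hg (hF g hgN)
  have hvan : ∀ x : T, x ∉ AP P → b x * (X (ty (P x)) L : ℂ) = 0 := by
    intro x hx
    rw [h.van x (fun h => hx (hodd x h)), zero_mul]
  have hclass : ∀ t x : T, b (t * x * t⁻¹) * (X (ty (P (t * x * t⁻¹))) L : ℂ) =
      b x * (X (ty (P x)) L : ℂ) := by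
    intro t x
    rw [h.isClass x t, map_mul, map_mul, map_inv, H886.Spin.ty_conj]
  have h2ne : ∀ k : ℕ, (2 : ℂ) ^ k ≠ 0 := fun k => pow_ne_zero _ two_ne_zero
  have hsign : ∀ (k m : ℕ), b 1 * (X (ty (P 1)) L : ℂ) ≠ 2 ^ k * (-(m : ℂ)) := by
    intro k m h1
    obtain ⟨k', hk'⟩ := h.one_pos
    rw [map_one, ty_one, Fintype.card_fin, hk'] at h1
    have h3 := X_ones_pos n hL hLs
    have h4 : ((2 : ℤ) ^ k' * X (Multiset.replicate n 1) L + 2 ^ k * m : ℤ) = 0 := by
      have : (((2 : ℤ) ^ k' * X (Multiset.replicate n 1) L + 2 ^ k * m : ℤ) : ℂ) = 0 := by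
        push_cast
        linear_combination h1
      exact_mod_cast this
    have h5 : (0 : ℤ) ≤ 2 ^ k * m := by positivity
    have h6 : (0 : ℤ) < 2 ^ k' * X (Multiset.replicate n 1) L := by positivity
    omega
  rcases Nat.even_or_odd (L.length + c₀) with hpar | hpar
  · obtain ⟨θ, hθ1, hθ2⟩ := H886.Spin.exists_theta P b c₀ divT hpos
    obtain ⟨k, hk⟩ := hpar
    have hk2 : (L.length + c₀) / 2 = k := by omega
    rw [hk2] at hθ2 ⊢
    have hθn : classInner θ θ = 1 := by
      rw [classInner_def, hcardT]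
      have h3 : (2 : ℂ) ^ k * (2 : ℂ) ^ k * ∑ g : T, θ g * conj (θ g) =
          2 * n.factorial * 2 ^ (L.length + c₀) := by
        rw [← hnormT, Finset.mul_sum]
        refine Finset.sum_congr rfl fun x _ => ?_
        rw [hθ2 x, map_mul, map_pow, Complex.conj_ofNat]; ring
      rw [hk, pow_add] at h3
      have h4 : ∑ g : T, θ g * conj (θ g) = 2 * n.factorial := by
        refine mul_left_cancel₀ (mul_ne_zero (h2ne k) (h2ne k)) ?_
        rw [h3]; ring
      rw [h4]
      exact inv_mul_cancel₀ (mul_ne_zero two_ne_zero hnf)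
    have hθvan : ∀ x : T, x ∉ AP P → θ x = 0 := by
      intro x hx
      have := hθ2 x
      rw [hvan x hx] at this
      exact (mul_eq_zero.mp this.symm).resolve_left (h2ne k)
    rcases isIrr_of_generalized hθ1 hθn with hirr | hirr
    · obtain ⟨χ, hχ⟩ := exists_constituent (AP P) hirr
      refine ⟨χ, fun t ht x y hy => ?_⟩
      have h8 := H886.Spin.restrict_sum (AP P) hindex hirr hθvan χ.2 hχ (t := t) ht x
      have h9 : (MulAut.conjNormal t : MulAut (AP P)) x = y := by
        apply Subtype.ext; rw [MulAut.conjNormal_apply, hy]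
      rw [h9] at h8
      rw [← h8, hθ2 x, ← mul_assoc, inv_mul_cancel₀ (h2ne k), one_mul]
    · exfalso
      obtain ⟨m, -, hm⟩ := isIrr_apply_one hirr
      refine hsign k m ?_
      rw [hθ2 1, ← hm, Pi.neg_apply, neg_neg]
  · obtain ⟨θ, hθ1, hθ2⟩ := H886.Spin.exists_theta (fun x : AP P => P (x : T)) (fun x : AP P => b (x : T)) (1 + c₀)
      divH hpos
    obtain ⟨k, hk⟩ := hpar
    have hk2 : (L.length + (1 + c₀)) / 2 = k + 1 := by omega
    have hk3 : (L.length + c₀) / 2 = k := by omega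
    rw [hk2] at hθ2
    rw [hk3]
    have hθn : classInner θ θ = 1 := by
      rw [classInner_def, hcH]
      have h3 : (2 : ℂ) ^ (k + 1) * (2 : ℂ) ^ (k + 1) * ∑ g : AP P, θ g * conj (θ g) =
          2 * n.factorial * 2 ^ (L.length + c₀) := by
        rw [← hnormT, hsumH, Finset.mul_sum]
        · refine Finset.sum_congr rfl fun x _ => ?_
          rw [hθ2 x, map_mul, map_pow, Complex.conj_ofNat]; ring
        · intro x hx
          rw [hvan x hx, zero_mul]
      rw [hk] at h3
      have h4 : ∑ g : AP P, θ g * conj (θ g) = n.factorial := by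
        refine mul_left_cancel₀ (mul_ne_zero (h2ne (k + 1)) (h2ne (k + 1))) ?_
        rw [h3]; ring
      rw [h4]
      exact inv_mul_cancel₀ hnf
    have hinv : ∀ (t : T) (x y : AP P), (y : T) = t * x * t⁻¹ → θ y = θ x := by
      intro t x y hy
      refine mul_left_cancel₀ (h2ne (k + 1)) ?_
      rw [← hθ2, ← hθ2, hy, hclass]
    rcases isIrr_of_generalized hθ1 hθn with hirr | hirr
    · refine ⟨⟨θ, hirr⟩, fun t _ x y hy => ?_⟩
      show θ x + θ y = _
      rw [hinv t x y hy, hθ2 x, pow_succ, mul_assoc, ← mul_assoc, inv_mul_cancel₀ (h2ne k), one_mul, two_mul]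
    · exfalso
      obtain ⟨m, -, hm⟩ := isIrr_apply_one hirr
      refine hsign (k + 1) m ?_
      have h1 := hθ2 1
      rw [Subgroup.coe_one] at h1
      rw [h1, ← hm, Pi.neg_apply, neg_neg]

/-! ### lifts of elements of order `p` -/

variable {p : ℕ}

theorem z_sq (h : SpinData n P z b) : z * z = 1 := by
  have hPz : P z = 1 := (h.ker z).mpr (Or.inr rfl)
  have : P (z * z) = 1 := by rw [map_mul, hPz, mul_one]
  rcases (h.ker _).mp this with h1 | h1
  · exact h1
  · exact absurd (mul_eq_left.mp h1) h.z_ne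

theorem sq_of_ker (h : SpinData n P z b) {x : T} (hx : P x = 1) : x ^ 2 = 1 := by
  rcases (h.ker x).1 hx with h1 | h1
  · rw [h1, one_pow]
  · rw [h1, pow_two, z_sq h]

theorem exists_lift (h : SpinData n P z b) (hp : Odd p) {σ : Equiv.Perm (Fin n)} (hσ : σ ^ p = 1) :
    ∃ u : T, P u = σ ∧ u ^ p = 1 := by
  obtain ⟨u, rfl⟩ := h.surj σ
  refine ⟨u ^ (p + 1), by rw [map_pow, pow_succ, hσ, one_mul], ?_⟩
  obtain ⟨c, hc⟩ := hp
  have h1 : (u ^ p) ^ 2 = 1 := sq_of_ker h (by rw [map_pow, hσ])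
  rw [← pow_mul, mul_comm, pow_mul, show p + 1 = 2 * (c + 1) by omega, pow_mul, h1, one_pow]

theorem lift_uniq (h : SpinData n P z b) {q : ℕ} (hq : Odd q) {u v : T} (huv : P u = P v) (hu : u ^ q = 1)
    (hv : v ^ q = 1) : u = v := by
  have h1 : P (u * v⁻¹) = 1 := by rw [map_mul, map_inv, huv, mul_inv_cancel]
  rcases (h.ker _).1 h1 with h2 | h2
  · exact mul_inv_eq_one.1 h2
  · exfalso
    rw [mul_inv_eq_iff_eq_mul] at h2
    have hc : Commute z v := (h.z_comm v).symm
    rw [h2, hc.mul_pow, hv, mul_one] at hu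
    obtain ⟨c, hc'⟩ := hq
    rw [hc', pow_succ, pow_mul, pow_two, z_sq h, one_pow, one_mul] at hu
    exact h.z_ne hu

theorem comm_lift (h : SpinData n P z b) {q : ℕ} (hq : Odd q) {a u : T} (hu : u ^ q = 1)
    (hc : P a * P u = P u * P a) : a * u = u * a := by
  have h1 : a * u * a⁻¹ = u := lift_uniq h hq (by rw [map_mul, map_mul, map_inv, hc, mul_inv_cancel_right])
    (by rw [conj_pow, hu, mul_one, mul_inv_cancel]) hu
  rw [← mul_inv_eq_iff_eq_mul, h1]

theorem mem_alt_of_pow {q : ℕ} (hq : Odd q) {σ : Equiv.Perm (Fin n)} (hσ : σ ^ q = 1) :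
    σ ∈ alternatingGroup (Fin n) := by
  rw [Equiv.Perm.mem_alternatingGroup]
  have h2 : (Equiv.Perm.sign σ) ^ q = 1 := by rw [← map_pow, hσ, map_one]
  rcases Int.units_eq_one_or (Equiv.Perm.sign σ) with h | h
  · exact h
  · rw [h, hq.neg_one_pow] at h2
    exact absurd h2 (by decide)

theorem ty_ofSubtype {α : Type} [Fintype α] [DecidableEq α] (σ : Equiv.Perm α) (τ : Equiv.Perm {x : α // σ x = x}) :
    ty (σ * Equiv.Perm.ofSubtype τ) = σ.cycleType + ty τ := by
  obtain ⟨y, rfl⟩ := toFix_surjective σ τ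
  rw [ofSubtype_toFix, ty_mul]

theorem exists_ofSubtype {α : Type} [Fintype α] [DecidableEq α] {σ g : Equiv.Perm α} (hg : g ∈ fixS σ) :
    ∃ τ : Equiv.Perm {x : α // σ x = x}, Equiv.Perm.ofSubtype τ = g :=
  ⟨toFix σ ⟨⟨g, fixS_le_centralizer σ hg⟩, hg⟩, ofSubtype_toFix _ _⟩

/-- **the linking of labels** -/
theorem link_lab [hp : Fact p.Prime] (hp2 : p ≠ 2) {M : Ideal AlgInt} (hM : IsPModular p M) (h : SpinData n P z b)
    {χ χ' : IrrCharacter (AP P)} {L L' K : List ℤ} {c c' : ℂ} (hc : c ≠ 0) (hc' : c' ≠ 0) (hχ : Lab P b χ L c)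
    (hχ' : Lab P b χ' L' c') (hL : Gd L) (hL' : Gd L') (hs : L.sum = n) {w : ℕ} (hw : 2 ≤ w) (hR : Rch p w L K)
    (hR' : Rch p w L' K) (hK : Cor p K) : SameBlock M (χ : AP P → ℂ) (χ' : AP P → ℂ) := by
  classical
  let _ : Fintype T := Fintype.ofFinite T
  have hodd : Odd p := hp.out.odd_of_ne_two hp2
  have hKs := hK.gd.sum_nonneg
  have hsum := hR.sum
  have hpw : p * w ≤ n := by
    have : ((p * w : ℕ) : ℤ) ≤ n := by push_cast; omega
    exact_mod_cast this
  obtain ⟨σ, hσ⟩ := exists_cycleType (α := Fin n) (p := p) (w := w) (by rwa [Fintype.card_fin])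
  have hσp := pow_eq_one_of_cycleType hσ
  obtain ⟨u, hu, hup⟩ := exists_lift h hodd hσp
  have huH : u ∈ AP P := by
    show P u ∈ alternatingGroup (Fin n)
    rw [hu]; exact mem_alt_of_pow hodd hσp
  obtain ⟨x, hx⟩ : ∃ x : AP P, (x : T) = u := ⟨⟨u, huH⟩, rfl⟩
  let f : Subgroup.centralizer ({x} : Set (AP P)) →* T :=
    (AP P).subtype.comp (Subgroup.centralizer ({x} : Set (AP P))).subtype
  have hf : ∀ g, f g = ((g : AP P) : T) := fun _ => rfl
  have hfi : Function.Injective f := (AP P).subtype_injective.comp (Subgroup.subtype_injective _)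
  have hfu : ∀ g, f g * u = u * f g := fun g => by
    have h1 := congrArg Subtype.val (Subgroup.mem_centralizer_singleton_iff.1 g.2)
    rw [Subgroup.coe_mul, Subgroup.coe_mul, hx] at h1
    exact h1
  have hfσ : ∀ g, P (f g) * σ = σ * P (f g) := fun g => by rw [← hu, ← map_mul, hfu, map_mul]
  have hmk : ∀ a : T, P a ∈ alternatingGroup (Fin n) → P a * σ = σ * P a → ∃ g, f g = a := by
    intro a ha hc
    refine ⟨⟨⟨a, ha⟩, ?_⟩, rfl⟩
    rw [Subgroup.mem_centralizer_singleton_iff]
    apply Subtype.ext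
    rw [Subgroup.coe_mul, Subgroup.coe_mul, hx]
    exact comm_lift h hodd hup (by rwa [hu])
  let Q : Subgroup (Subgroup.centralizer ({x} : Set (AP P))) :=
    { carrier := {g | P (f g) ∈ cyc σ ∧ (f g) ^ p = 1}
      mul_mem' := by
        rintro g k ⟨hg, hg'⟩ ⟨hk, hk'⟩
        refine ⟨by rw [map_mul, map_mul]; exact mul_mem hg hk, ?_⟩
        have h1 : Commute (f g) (f k) := comm_lift h hodd hk' (cyc_comm hg hk)
        rw [map_mul, h1.mul_pow, hg', hk', mul_one]
      one_mem' := ⟨by rw [map_one, map_one]; exact one_mem _, by rw [map_one, one_pow]⟩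
      inv_mem' := by
        rintro g ⟨hg, hg'⟩
        exact ⟨by rw [map_inv, map_inv]; exact inv_mem hg, by rw [map_inv, inv_pow, hg', inv_one]⟩ }
  have hQm : ∀ g, g ∈ Q ↔ P (f g) ∈ cyc σ ∧ (f g) ^ p = 1 := fun _ => Iff.rfl
  have hQn : Q.Normal := ⟨fun g hg k => by
    rw [hQm] at hg ⊢
    rw [map_mul, map_mul, map_inv, map_mul, map_mul, map_inv]
    exact ⟨conj_mem_cyc (hfσ k) hg.1, by rw [conj_pow, hg.2, mul_one, mul_inv_cancel]⟩⟩
  have hQ : IsPGroup p Q := fun g => ⟨1, by
    apply Subtype.ext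
    apply hfi
    rw [pow_one, Subgroup.coe_pow, map_pow, ((hQm _).1 g.2).2, Subgroup.coe_one, map_one]⟩
  let Y : Subgroup (Subgroup.centralizer ({x} : Set (AP P))) := (fixS σ).comap (P.comp f)
  have hYm : ∀ g, g ∈ Y ↔ P (f g) ∈ fixS σ := fun _ => Iff.rfl
  have hYn : Y.Normal := ⟨fun g hg k => by
    rw [hYm] at hg ⊢
    rw [map_mul, map_mul, map_inv, map_mul, map_mul, map_inv]
    exact conj_mem_fixS (hfσ k) hg⟩
  let _ : Fintype Y := Fintype.ofFinite _
  obtain ⟨τ, hτs, hτc, hτsup⟩ := H112.Comm.exists_odd_swap hw hσ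
  obtain ⟨t, ht⟩ := h.surj τ
  have htA : P t ∉ alternatingGroup (Fin n) := by
    rw [ht, Equiv.Perm.mem_alternatingGroup, hτs]
    decide
  have htu : t * u = u * t := comm_lift h hodd hup (by rw [ht, hu]; exact hτc)
  -- the values on the section
  have hval : ∀ {ψ : AP P → ℂ} {J : List ℤ} {d : ℂ}, Lab P b ψ J d → ∀ y : Y,
      ψ (x * ((y : Subgroup.centralizer ({x} : Set (AP P))) : AP P)) =
        d / 2 * (b (u * f y) * (X (ty (σ * P (f y))) J : ℂ)) := by
    intro ψ J d hψ y
    have h1 : t * f y = f y * t := by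
      refine H112.Comm.comm_of_disjoint h.surj h.z_comm h.ker ?_ ((y : Subgroup.centralizer ({x} : Set (AP P))) : AP P).2
      rw [Equiv.Perm.disjoint_iff_disjoint_support, ht]
      exact Finset.disjoint_of_subset_left hτsup
        (Equiv.Perm.disjoint_iff_disjoint_support.1 (fixS_disjoint ((hYm _).1 y.2)))
    have h2 : ((x * ((y : Subgroup.centralizer ({x} : Set (AP P))) : AP P) : AP P) : T) = u * f y := by
      rw [Subgroup.coe_mul, hx, hf]
    have h3 := hψ t htA (x * ((y : Subgroup.centralizer ({x} : Set (AP P))) : AP P))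
      (x * ((y : Subgroup.centralizer ({x} : Set (AP P))) : AP P)) (by
        rw [h2, ← mul_assoc, htu, mul_assoc u t, h1, ← mul_assoc, mul_inv_cancel_right])
    rw [h2, map_mul, hu] at h3
    linear_combination (1 / 2 : ℂ) * h3
  refine link hM (x := x) ⟨1, ?_⟩ Q Y hQ ?_ χ χ' ?_ ?_
  · have h1 : x ^ p = 1 := Subtype.ext (by rw [Subgroup.coe_pow, hx, hup, Subgroup.coe_one])
    have h2 : x ≠ 1 := by
      intro h3
      rw [h3, Subgroup.coe_one] at hx
      rw [← hx, map_one] at hu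
      rw [← hu, Equiv.Perm.cycleType_one] at hσ
      have h4 := congrArg Multiset.card hσ
      rw [Multiset.card_zero, Multiset.card_replicate] at h4
      omega
    rw [orderOf_eq_prime h1 h2]
    exact (pow_one p).symm
  · intro g hg hgc
    rw [hYm]
    refine mem_fixS_of_pRegular hp.out hσp (fun h1 => hg (h1.trans ((orderOf_map_dvd P _).trans
      (orderOf_map_dvd f _)))) fun e he => ?_
    obtain ⟨v, hv, hvp⟩ := exists_lift h hodd (cyc_pow hσp he)
    obtain ⟨k, hk⟩ := hmk v (by rw [hv]; exact mem_alt_of_pow hodd (cyc_pow hσp he)) (by rw [hv]; exact he.1)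
    have h1 := Subgroup.mem_centralizer_iff.1 hgc k ((hQm k).2 ⟨by rw [hk, hv]; exact he, by rw [hk, hvp]⟩)
    rw [← hv, ← hk, ← map_mul, ← map_mul, ← map_mul, ← map_mul, h1]
  · intro y hy
    rw [hval hχ' y]
    by_cases ho : ∀ i ∈ ty (σ * P (f y)), Odd i
    · rw [H886.Spin.X_eq_zero_of_wt hodd ho]
      · simp
      · have h1 : p ∣ orderOf (P (f y)) := by
          have h2 : orderOf y ∣ orderOf (P (f y)) * 2 := by
            rw [← Subgroup.orderOf_coe, ← orderOf_injective f hfi, orderOf_dvd_iff_pow_eq_one, pow_mul]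
            exact sq_of_ker h (by rw [map_pow, pow_orderOf_eq_one])
          rcases (hp.out.dvd_mul).1 (hy.trans h2) with h3 | h3
          · exact h3
          · exact absurd ((Nat.prime_dvd_prime_iff_eq hp.out Nat.prime_two).1 h3) hp2
        rw [← Equiv.Perm.lcm_cycleType] at h1
        obtain ⟨r, hr, hr'⟩ : ∃ r ∈ (P (f y)).cycleType, p ∣ r := by
          by_contra hno
          push Not at hno
          have h2 : (P (f y)).cycleType.lcm ∣ (P (f y)).cycleType.prod :=
            Multiset.lcm_dvd.2 fun r hr => Multiset.dvd_prod hr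
          obtain ⟨r, hr, hr'⟩ := hp.out.prime.exists_mem_multiset_dvd (h1.trans h2)
          exact hno r hr hr'
        have h3 : p * w + r ≤ ((ty (σ * P (f y))).filter (p ∣ ·)).sum := by
          rw [ty_eq, (fixS_disjoint ((hYm _).1 y.2)).cycleType_mul, hσ, Multiset.filter_add, Multiset.filter_add,
            Multiset.sum_add, Multiset.sum_add, Multiset.filter_eq_self.2 (fun a ha => by
              rw [Multiset.eq_of_mem_replicate ha]), Multiset.sum_replicate, smul_eq_mul]
          have h4 : r ≤ ((P (f y)).cycleType.filter (p ∣ ·)).sum :=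
            Multiset.le_sum_of_mem (Multiset.mem_filter.2 ⟨hr, hr'⟩)
          have := Nat.mul_comm w p
          omega
        have h4 := Equiv.Perm.two_le_of_mem_cycleType hr
        rw [hR'.wt hodd, hK.wt hp2, zero_add]
        have h5 : p * w < ((ty (σ * P (f y))).filter (p ∣ ·)).sum := by omega
        exact_mod_cast h5
    · rw [h.van (u * f y) (by rwa [map_mul, hu]), zero_mul, mul_zero]
  · obtain ⟨c₀, hc₀⟩ : ∃ c₀, c₀ = if Even n then 2 else 1 := ⟨_, rfl⟩
    let F : Equiv.Perm (Fin n) → ℂ := fun g => if g ∈ fixS σ ∧ ∀ i ∈ ty (σ * g), Odd i then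
      2 ^ (Multiset.card (ty (σ * g)) + c₀) * (X (ty (σ * g)) L : ℂ) * (X (ty (σ * g)) L' : ℂ) else 0
    have h1 : ∀ y : Y, (χ : AP P → ℂ) (x * ((y : Subgroup.centralizer ({x} : Set (AP P))) : AP P)) *
        conj ((χ' : AP P → ℂ) (x * ((y : Subgroup.centralizer ({x} : Set (AP P))) : AP P))) =
        c / 2 * conj (c' / 2) * F (P (f y)) := by
      intro y
      rw [hval hχ y, hval hχ' y, map_mul, map_mul, map_intCast]
      by_cases ho : ∀ i ∈ ty (σ * P (f y)), Odd i
      · have h2 := h.sq (u * f y) (by rwa [map_mul, hu])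
        rw [map_mul, hu, ← hc₀] at h2
        simp only [F]
        rw [if_pos ⟨(hYm _).1 y.2, ho⟩, ← h2]
        ring
      · simp only [F]
        rw [h.van (u * f y) (by rwa [map_mul, hu]), if_neg (fun h2 => ho h2.2)]
        simp
    rw [Finset.sum_congr rfl fun y _ => h1 y, ← Finset.mul_sum]
    refine mul_ne_zero (mul_ne_zero (div_ne_zero hc two_ne_zero) ((map_ne_zero _).2 (div_ne_zero hc' two_ne_zero))) ?_
    have h2 : ∑ y : Y, F (P (f y)) = ∑ a : T, F (P a) := by
      refine Finset.sum_of_injOn (fun y : Y => f y) (fun y _ y' _ e => Subtype.ext (hfi e))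
        (fun _ _ => Finset.mem_coe.2 (Finset.mem_univ _)) (fun a _ ha => ?_) fun _ _ => rfl
      simp only [F]
      refine if_neg fun h3 => ha ?_
      have h4 : P a ∈ alternatingGroup (Fin n) :=
        (Subgroup.mul_mem_cancel_left _ (mem_alt_of_pow hodd hσp)).1 (H886.Spin.sign_of_odd h3.2)
      obtain ⟨g, hg⟩ := hmk a h4 (fixS_comm h3.1)
      exact ⟨⟨g, (hYm g).2 (by rw [hg]; exact h3.1)⟩, Finset.mem_coe.2 (Finset.mem_univ _), hg⟩
    have h3 : ∑ τ : Equiv.Perm {i : Fin n // σ i = i}, F (Equiv.Perm.ofSubtype τ) = ∑ g, F g := by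
      refine Finset.sum_of_injOn (fun τ => Equiv.Perm.ofSubtype τ) (fun y _ y' _ e => Equiv.Perm.ofSubtype_injective e)
        (fun _ _ => Finset.mem_coe.2 (Finset.mem_univ _)) (fun a _ ha => ?_) fun _ _ => rfl
      simp only [F]
      refine if_neg fun h3 => ha ?_
      obtain ⟨τ, hτ⟩ := exists_ofSubtype h3.1
      exact ⟨τ, Finset.mem_coe.2 (Finset.mem_univ _), hτ⟩
    rw [h2, H886.Spin.sum_fibre h.surj h.z_ne h.ker F, ← h3]
    refine mul_ne_zero two_ne_zero ?_
    have h4 := pair_ne_zero (α := {i : Fin n // σ i = i}) hodd hL hL' hR hR' (by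
      rw [card_fix, hσ, Multiset.sum_replicate, smul_eq_mul, Fintype.card_fin, mul_comm w p, Nat.cast_sub hpw]
      push_cast
      omega)
    have h5 : ∑ τ : Equiv.Perm {i : Fin n // σ i = i}, F (Equiv.Perm.ofSubtype τ) =
        2 ^ (w + c₀) * ((∑ τ ∈ oddP {i : Fin n // σ i = i}, 2 ^ Multiset.card (ty τ) *
          X (Multiset.replicate w p + ty τ) L * X (Multiset.replicate w p + ty τ) L' : ℤ) : ℂ) := by
      unfold oddP
      rw [Int.cast_sum, Finset.mul_sum, Finset.sum_filter]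
      refine Finset.sum_congr rfl fun τ _ => ?_
      simp only [F]
      rw [ty_ofSubtype, hσ]
      by_cases ho : ∀ r ∈ ty τ, Odd r
      · rw [if_pos ho, if_pos ⟨fun i hi => Equiv.Perm.ofSubtype_apply_of_not_mem τ hi, fun i hi => by
          rcases Multiset.mem_add.1 hi with h6 | h6
          · rw [Multiset.eq_of_mem_replicate h6]; exact hodd
          · exact ho i h6⟩, Multiset.card_add, Multiset.card_replicate]
        push_cast
        ring
      · rw [if_neg ho, if_neg fun h6 => ho fun r hr => h6.2 r (Multiset.mem_add.2 (Or.inr hr))]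
    rw [h5]
    exact mul_ne_zero (pow_ne_zero _ two_ne_zero) (by exact_mod_cast h4)

end Cfsg.Agent.BZ.Alt
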