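import Cfsg.Agent.H614.Cover
import Cfsg.Agent.H590.CoverLies
import Cfsg.Agent.S0907

/-!
# BZ/Alt: a linking criterion through the second main theorem (helper31)

`link` : let `x` be a `p`-element, `Q` a normal `p`-subgroup of `C(x)` and `Y` a normal subgroup of `C(x)` containing the
`p`-regular elements which centralise `Q`.  If `y ↦ χ' (x y)` vanishes on the `p`-singular elements of `Y` and is not
orthogonal to `y ↦ χ (x y)` on `Y`, then `χ` and `χ'` lie in the same block.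
-/

set_option autoImplicit false
set_option linter.unusedSectionVars false
set_option maxHeartbeats 400000

namespace Cfsg.Agent.BZ.Alt

open Finset Cfsg Cfsg.Agent.Characters.Core Cfsg.Agent.H614
open scoped ComplexConjugate

universe u

variable {p : ℕ} [Fact p.Prime] {M : Ideal AlgInt}

/-- the part of a class function in a block, as a finite sum -/
theorem exists_part {Y : Type u} [Group Y] [Fintype Y] (hM : IsPModular p M) {f f' : Y → ℂ}
    (hf' : IsClassFunction Y f') (hv : ∀ y, p ∣ orderOf y → f' y = 0)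
    (hne : ∑ y, f y * conj (f' y) ≠ 0) :
    ∃ (η₀ : IrrCharacter Y) (ζ : Y → ℂ), (∀ y, p ∣ orderOf y → ζ y = 0) ∧ ∑ y, f y * conj (ζ y) ≠ 0 ∧
      ∑ y, f' y * conj (ζ y) ≠ 0 ∧
      ∀ g : Y → ℂ, ∑ y, g y * conj (ζ y) ≠ 0 → ∃ η ∈ blockOf M (η₀ : Y → ℂ), classInner g (η : Y → ℂ) ≠ 0 := by
  classical
  have hMp : M.IsPrime := hM.2.1.isPrime
  have : Finite (IrrCharacter Y) := finite_irr
  let _ : Fintype (IrrCharacter Y) := Fintype.ofFinite _
  have hc : (Nat.card Y : ℂ) ≠ 0 := card_ne_zero_complex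
  let a : IrrCharacter Y → ℂ := fun η => classInner f' (η : Y → ℂ)
  let bl : IrrCharacter Y → Set (IrrCharacter Y) := fun η => blockOf M (η : Y → ℂ)
  let part : Set (IrrCharacter Y) → Y → ℂ := fun b y => ∑ η ∈ univ.filter (fun η => bl η = b), a η * (η : Y → ℂ) y
  have hpair : ∀ (g : Y → ℂ) (b : Set (IrrCharacter Y)), ∑ y, g y * conj (part b y) =
      ∑ η ∈ univ.filter (fun η => bl η = b), conj (a η) * (Nat.card Y * classInner g (η : Y → ℂ)) := by
    intro g b
    simp only [part, map_sum, map_mul, Finset.mul_sum]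
    rw [Finset.sum_comm]
    refine Finset.sum_congr rfl fun η _ => ?_
    rw [classInner_def, ← mul_assoc (Nat.card Y : ℂ), mul_inv_cancel₀ hc, one_mul, Finset.mul_sum]
    exact Finset.sum_congr rfl fun y _ => by ring
  have h1 : ∀ y, f' y = ∑ b ∈ univ.image bl, part b y := by
    intro y
    conv_lhs => rw [classFunction_eq_sum hf']
    rw [Finset.sum_apply, ← Finset.sum_fiberwise_of_maps_to (g := bl) (t := univ.image bl)
      (fun ψ _ => Finset.mem_image_of_mem _ (Finset.mem_univ ψ))]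
    rfl
  have h2 : ∑ y, f y * conj (f' y) = ∑ b ∈ univ.image bl, ∑ y, f y * conj (part b y) := by
    rw [Finset.sum_comm]
    refine Finset.sum_congr rfl fun y _ => ?_
    rw [h1 y, map_sum, Finset.mul_sum]
  rw [h2] at hne
  obtain ⟨b, hb, hb'⟩ := Finset.exists_ne_zero_of_sum_ne_zero hne
  obtain ⟨η₀, -, rfl⟩ := Finset.mem_image.1 hb
  have hmem : ∀ η : IrrCharacter Y, bl η = bl η₀ ↔ η ∈ blockOf M (η₀ : Y → ℂ) := by
    intro η
    show blockOf M (η : Y → ℂ) = blockOf M (η₀ : Y → ℂ) ↔ _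
    rw [Blocks.Basic.blockOf_eq_iff, Blocks.Basic.mem_blockOf]
    exact ⟨Blocks.Basic.sameBlock_symm, Blocks.Basic.sameBlock_symm⟩
  refine ⟨η₀, part (bl η₀), fun y hy => ?_, hb', ?_, fun g hg => ?_⟩
  · have h3 : part (bl η₀) y = (Nat.card Y : ℂ)⁻¹ * ∑ k, f' k *
        conj (∑ η ∈ univ.filter (fun η => bl η = bl η₀), (η : Y → ℂ) k * conj ((η : Y → ℂ) y)) := by
      simp only [part, a, classInner_def, map_sum, map_mul, Complex.conj_conj, Finset.mul_sum, Finset.sum_mul]
      rw [Finset.sum_comm]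
      exact Finset.sum_congr rfl fun k _ => Finset.sum_congr rfl fun η _ => by ring
    rw [h3, Finset.sum_eq_zero, mul_zero]
    intro k _
    by_cases hk : p ∣ orderOf k
    · rw [hv k hk, zero_mul]
    · have h4 := S0907.result p M hM (blockOf M (η₀ : Y → ℂ)) ⟨η₀, rfl⟩ k y hk hy
      rw [finsum_mem_eq_toFinset_sum] at h4
      have h5 : univ.filter (fun η => bl η = bl η₀) = (blockOf M (η₀ : Y → ℂ)).toFinset := by
        ext η
        rw [Finset.mem_filter, Set.mem_toFinset, hmem]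
        simp
      rw [h5, h4, map_zero, mul_zero]
  · rw [hpair] at hb' ⊢
    obtain ⟨η, hη, hη'⟩ := Finset.exists_ne_zero_of_sum_ne_zero hb'
    have h3 : a η ≠ 0 := fun h => hη' (by rw [h, map_zero, zero_mul])
    have h4 : ∑ η ∈ univ.filter (fun η => bl η = bl η₀), conj (a η) * (Nat.card Y * classInner f' (η : Y → ℂ)) =
        Nat.card Y * ((∑ η ∈ univ.filter (fun η => bl η = bl η₀), Complex.normSq (a η) : ℝ) : ℂ) := by
      rw [Complex.ofReal_sum, Finset.mul_sum]
      refine Finset.sum_congr rfl fun η _ => ?_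
      rw [Complex.normSq_eq_conj_mul_self]
      show _ * (_ * a η) = _
      ring
    rw [h4]
    refine mul_ne_zero hc ?_
    rw [Ne, Complex.ofReal_eq_zero]
    exact (Finset.sum_pos' (fun _ _ => Complex.normSq_nonneg _) ⟨η, hη, Complex.normSq_pos.2 h3⟩).ne'
  · rw [hpair] at hg
    obtain ⟨η, hη, hη'⟩ := Finset.exists_ne_zero_of_sum_ne_zero hg
    refine ⟨η, (hmem η).1 (Finset.mem_filter.1 hη).2, fun h => hη' ?_⟩
    rw [h, mul_zero, mul_zero]

/-- **the linking criterion** -/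
theorem link {G : Type u} [Group G] [Finite G] (hM : IsPModular p M) {x : G} (hx : ∃ k : ℕ, orderOf x = p ^ k)
    (Q Y : Subgroup (Subgroup.centralizer ({x} : Set G))) [Q.Normal] [Y.Normal] [Fintype Y] (hQ : IsPGroup p Q)
    (hY : ∀ g : Subgroup.centralizer ({x} : Set G), ¬ p ∣ orderOf g →
      g ∈ Subgroup.centralizer (Q : Set (Subgroup.centralizer ({x} : Set G))) → g ∈ Y)
    (χ χ' : IrrCharacter G)
    (hv : ∀ y : Y, p ∣ orderOf y → (χ' : G → ℂ) (x * ((y : Subgroup.centralizer ({x} : Set G)) : G)) = 0)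
    (hne : ∑ y : Y, (χ : G → ℂ) (x * ((y : Subgroup.centralizer ({x} : Set G)) : G)) *
      conj ((χ' : G → ℂ) (x * ((y : Subgroup.centralizer ({x} : Set G)) : G))) ≠ 0) :
    SameBlock M (χ : G → ℂ) (χ' : G → ℂ) := by
  classical
  have hMp : M.IsPrime := hM.2.1.isPrime
  let _ : Fintype (Subgroup.centralizer ({x} : Set G)) := Fintype.ofFinite _
  have hcl : IsClassFunction Y
      (fun y : Y => (χ' : G → ℂ) (x * ((y : Subgroup.centralizer ({x} : Set G)) : G))) := by
    intro g k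
    have hk : x * ((k : Subgroup.centralizer ({x} : Set G)) : G) =
        ((k : Subgroup.centralizer ({x} : Set G)) : G) * x :=
      Subgroup.mem_centralizer_iff.1 (k : Subgroup.centralizer ({x} : Set G)).2 x rfl
    have e : x * (((k * g * k⁻¹ : Y) : Subgroup.centralizer ({x} : Set G)) : G) =
        ((k : Subgroup.centralizer ({x} : Set G)) : G) * (x * ((g : Subgroup.centralizer ({x} : Set G)) : G)) *
          ((k : Subgroup.centralizer ({x} : Set G)) : G)⁻¹ := by
      simp only [Subgroup.coe_mul, Subgroup.coe_inv, ← mul_assoc, hk]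
    show (χ' : G → ℂ) (x * (((k * g * k⁻¹ : Y) : Subgroup.centralizer ({x} : Set G)) : G)) = _
    rw [e]
    exact isIrr_isClassFunction χ'.2 _ _
  obtain ⟨η₀, ζ, h1, h2, h3, h4⟩ := exists_part hM hcl hv hne
  have h1' : ∀ y : Y, p ∣ orderOf (y : Subgroup.centralizer ({x} : Set G)) → ζ y = 0 := fun y hy =>
    h1 y (by rwa [Subgroup.orderOf_coe] at hy)
  obtain ⟨b, hb, ψ, hψ, hψ2⟩ := exists_inducing_over hM hx (B := blockOf M (χ : G → ℂ)) ⟨χ, rfl⟩
    (Blocks.Basic.mem_blockOf_self χ) Y h1' h2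
  obtain ⟨b', hb', ψ', hψ', hψ2'⟩ := exists_inducing_over hM hx (B := blockOf M (χ' : G → ℂ)) ⟨χ', rfl⟩
    (Blocks.Basic.mem_blockOf_self χ') Y h1' h3
  obtain ⟨η, hη, hη2⟩ := h4 (fun y : Y => (ψ : Subgroup.centralizer ({x} : Set G) → ℂ) y) hψ2
  obtain ⟨η', hη', hη2'⟩ := h4 (fun y : Y => (ψ' : Subgroup.centralizer ({x} : Set G) → ℂ) y) hψ2'
  have h5 : η ∈ blockOf M (η' : Y → ℂ) := by
    rw [← Blocks.Basic.isPBlock_eq_blockOf ⟨η₀, rfl⟩ hη']
    exact hη
  obtain ⟨ψ'', hψ'', h6⟩ := Cfsg.Agent.H590.CoverLies.blockOf_subset_under hM hb'.1 ⟨ψ', hψ', hη2'⟩ h5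
  have hsame := sameBlock_of_over hM Q hQ Y hY η hη2 h6
  have hbb : b = b' := Blocks.Basic.isPBlock_eq_of_sameBlock hb.1 hb'.1 hψ hψ'' hsame
  subst hbb
  have hBB := inducedBlock_unique hM hb hb'
  rwa [Blocks.Basic.blockOf_eq_iff] at hBB

end Cfsg.Agent.BZ.Alt
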