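import Cfsg.Agent.H886.Spin.WV
import Cfsg.Agent.H886.Spin.Ortho
import Cfsg.Agent.H614.Spin.Basic

/-!
# BZ/Alt: removing `p`-bars with positive signs (helper31)

* `Arr p M` : the list `M` is arranged by the runners of the `p`-bar abacus;
* `Mv p L L'` : `L'` is `L` with a `p`-bar removed; `Rch p w L K` : `w` such steps;
* `pair_ne_zero` : if `L` and `L'` reach the same `K` in `w` steps, the functions `s ↦ X (p^w + s) L` and
  `s ↦ X (p^w + s) L'` are not orthogonal.
-/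

set_option autoImplicit false
set_option linter.unusedSectionVars false
set_option maxHeartbeats 400000

namespace Cfsg.Agent.BZ.Alt

open Finset Cfsg Cfsg.Agent.H614 Cfsg.Agent.H614.Spin
open Cfsg.Agent.H886.Spin (Rules X_rules)

/-- distinct positive parts -/
def Gd (L : List ℤ) : Prop := L.Nodup ∧ ∀ a ∈ L, 0 < a

theorem Gd.perm {L L' : List ℤ} (h : Gd L) (hp : L.Perm L') : Gd L' :=
  ⟨hp.nodup_iff.1 h.1, fun a ha => h.2 a (hp.mem_iff.2 ha)⟩

theorem gd_of_strict {L : List ℤ} (h : Strict L) : Gd L := ⟨h.nodup, h.2⟩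

theorem Gd.exists_strict {L : List ℤ} (h : Gd L) : ∃ L', Strict L' ∧ L.Perm L' := by
  have h1 := List.pairwise_mergeSort (le := fun a b : ℤ => decide (b ≤ a))
    (fun a b c h1 h2 => by simp only [decide_eq_true_eq] at *; omega)
    (fun a b => by simp only [Bool.or_eq_true, decide_eq_true_eq]; omega) L
  have h2 := (List.mergeSort_perm L (fun a b : ℤ => decide (b ≤ a))).symm
  have h3 := h.perm h2
  refine ⟨_, ⟨?_, h3.2⟩, h2⟩
  refine (h1.and h3.1).imp ?_
  rintro a b ⟨h4, h5⟩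
  simp only [decide_eq_true_eq] at h4
  omega

/-! ### the rules -/

theorem neg_zero {g : List ℤ → ℤ} (hg : Rules g) {c : ℤ} (hc : c < 0) (M₂ : List ℤ) :
    ∀ M₁ : List ℤ, (∀ b ∈ M₂, c + b ≠ 0) → g (M₁ ++ c :: M₂) = 0 := by
  induction M₂ with
  | nil => intro M₁ _; exact hg.neg M₁ c hc
  | cons b M₂ ih =>
    intro M₁ h
    have h1 := hg.swap M₁ c b M₂
    rw [if_neg (h b List.mem_cons_self)] at h1
    have h2 := ih (M₁ ++ [b]) (fun x hx => h x (List.mem_cons_of_mem _ hx))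
    rw [List.append_assoc, List.singleton_append] at h2
    omega

theorem perm_sign {L L' : List ℤ} (h : L.Perm L') (hpos : ∀ a ∈ L, 0 < a) :
    ∃ ε : ℤ, ε * ε = 1 ∧ ∀ g : List ℤ → ℤ, Rules g → ∀ L₀, g (L₀ ++ L) = ε * g (L₀ ++ L') := by
  induction h with
  | nil => exact ⟨1, rfl, fun g _ L₀ => (one_mul _).symm⟩
  | cons a _ ih =>
    obtain ⟨ε, h1, h2⟩ := ih (fun x hx => hpos x (List.mem_cons_of_mem _ hx))
    refine ⟨ε, h1, fun g hg L₀ => ?_⟩
    have h3 := h2 g hg (L₀ ++ [a])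
    rwa [List.append_assoc, List.append_assoc, List.singleton_append, List.singleton_append] at h3
  | swap a b M =>
    refine ⟨-1, rfl, fun g hg L₀ => ?_⟩
    have h1 := hg.swap L₀ b a M
    have h2 := hpos a (by simp)
    have h3 := hpos b (by simp)
    rw [if_neg (by omega)] at h1
    omega
  | trans h12 _ ih1 ih2 =>
    obtain ⟨ε, h1, h2⟩ := ih1 hpos
    obtain ⟨δ, h3, h4⟩ := ih2 (fun x hx => hpos x (h12.mem_iff.2 hx))
    refine ⟨ε * δ, by linear_combination δ * δ * h1 + h3, fun g hg L₀ => ?_⟩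
    rw [h2 g hg, h4 g hg, mul_assoc]

theorem dup_zero {g : List ℤ → ℤ} (hg : Rules g) {c : ℤ} {M₁ M₂ : List ℤ} (hpos : ∀ a ∈ M₁ ++ M₂, 0 < a)
    (hc : c ∈ M₁ ++ M₂) : g (M₁ ++ c :: M₂) = 0 := by
  have h1 : (M₁ ++ c :: M₂).Perm (c :: c :: (M₁ ++ M₂).erase c) :=
    List.perm_middle.trans ((List.perm_cons_erase hc).cons c)
  obtain ⟨ε, -, h2⟩ := perm_sign h1 (fun a ha => by
    rcases List.mem_cons.1 (List.perm_middle.mem_iff.1 ha) with rfl | ha
    · exact hpos _ hc
    · exact hpos a ha)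
  have h3 := h2 g hg []
  have h4 := hg.swap [] c c ((M₁ ++ M₂).erase c)
  have h5 := hpos c hc
  rw [if_neg (by omega)] at h4
  simp only [List.nil_append] at h3 h4
  have h6 : g (c :: c :: (M₁ ++ M₂).erase c) = 0 := by omega
  rw [h3, h6, mul_zero]

theorem rules_dl {g : List ℤ → ℤ} (hg : Rules g) {r : ℤ} (hr : Odd r) (hr0 : 0 < r) : Rules (dl r g) := by
  refine ⟨clif_dl hg.swap hr, fun L c hc => ?_, fun L => ?_⟩
  · rw [dl_append, dl_cons, dl_nil, hg.neg L (c - r) (by omega)]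
    have : dl r (fun K => g (K ++ [c])) L = dl r (fun _ => 0) L := by
      congr 1; funext K; exact hg.neg K c hc
    rw [this, dl_zero]; rfl
  · rw [dl_append, dl_cons, dl_nil, hg.neg L (0 - r) (by omega)]
    have : dl r (fun K => g (K ++ [0])) L = dl r g L := by
      congr 1; funext K; exact hg.zero K
    rw [this]; ring

theorem dl_nonneg {r : ℤ} {g : List ℤ → ℤ} {L : List ℤ}
    (h : ∀ (L₁ : List ℤ) (a : ℤ) (L₂ : List ℤ), L = L₁ ++ a :: L₂ → 0 ≤ g (L₁ ++ (a - r) :: L₂)) :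
    0 ≤ dl r g L := by
  induction L generalizing g with
  | nil => exact le_rfl
  | cons b L ih =>
    have h0 : 0 ≤ g ((b - r) :: L) := h [] b L rfl
    rw [dl_cons]
    exact add_nonneg h0 (ih (g := fun M => g (b :: M)) fun L₁ a L₂ hL => h (b :: L₁) a L₂ (by rw [hL]; rfl))

theorem dl_pos {r : ℤ} {g : List ℤ → ℤ} {M₁ : List ℤ} {c : ℤ} {M₂ : List ℤ}
    (h : ∀ (L₁ : List ℤ) (a : ℤ) (L₂ : List ℤ), M₁ ++ c :: M₂ = L₁ ++ a :: L₂ → 0 ≤ g (L₁ ++ (a - r) :: L₂))
    (h' : 0 < g (M₁ ++ (c - r) :: M₂)) : 0 < dl r g (M₁ ++ c :: M₂) := by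
  rw [dl_append, dl_cons]
  have h1 : 0 ≤ dl r (fun K => g (K ++ c :: M₂)) M₁ := dl_nonneg fun L₁ a L₂ hL => by
    have := h L₁ a (L₂ ++ c :: M₂) (by rw [hL]; simp)
    simpa using this
  have h2 : 0 ≤ dl r (fun K => g (M₁ ++ c :: K)) M₂ := dl_nonneg fun L₁ a L₂ hL => by
    have := h (M₁ ++ c :: L₁) a L₂ (by rw [hL]; simp)
    simpa using this
  omega

/-! ### arranged lists -/

/-- the position on the runner -/
def zp (p : ℕ) (a : ℤ) : ℤ := if a % p % 2 = 1 ∨ a % p = 0 then a else -a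

/-- the order of the arranged lists -/
def Bef (p : ℕ) (a b : ℤ) : Prop :=
  zp p b % p < zp p a % p ∨ (zp p a % p = zp p b % p ∧ zp p b < zp p a)

/-- arranged lists -/
def Arr (p : ℕ) (L : List ℤ) : Prop := L.Pairwise (Bef p) ∧ ∀ a ∈ L, 0 < a

variable {p : ℕ}

theorem zp_cases (a : ℤ) : zp p a = a ∨ zp p a = -a := by
  unfold zp; split_ifs
  · exact Or.inl rfl
  · exact Or.inr rfl

theorem Arr.gd {L : List ℤ} (h : Arr p L) : Gd L := by
  refine ⟨h.1.imp ?_, h.2⟩
  rintro a b hab rfl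
  unfold Bef at hab
  omega

theorem Arr.eq {L L' : List ℤ} (h : Arr p L) (h' : Arr p L') (hp : L.Perm L') : L = L' := by
  refine List.Perm.eq_of_pairwise ?_ h.1 h'.1 hp
  intro a b _ _ h1 h2
  unfold Bef at h1 h2
  omega

theorem Gd.exists_arr {L : List ℤ} (h : Gd L) (p : ℕ) : ∃ M, Arr p M ∧ M.Perm L := by
  classical
  have h1 := List.pairwise_mergeSort (le := fun a b : ℤ => decide (¬ Bef p b a))
    (fun a b c h1 h2 => by
      simp only [decide_eq_true_eq] at *
      unfold Bef at *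
      omega)
    (fun a b => by
      simp only [Bool.or_eq_true, decide_eq_true_eq]
      unfold Bef
      omega) L
  have h2 := List.mergeSort_perm L (fun a b : ℤ => decide (¬ Bef p b a))
  have h3 := h.perm h2.symm
  refine ⟨_, ⟨?_, h3.2⟩, h2⟩
  refine (h1.and h3.1).imp_of_mem ?_
  rintro a b ha hb ⟨h4, h5⟩
  simp only [decide_eq_true_eq] at h4
  have h6 := h3.2 a ha
  have h7 := h3.2 b hb
  have h8 := zp_cases (p := p) a
  have h9 := zp_cases (p := p) b
  unfold Bef at *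
  omega

theorem dvd_gap {q x y : ℤ} (_hq : 0 < q) (h : x % q = y % q) (hlt : x < y) : x + q ≤ y := by
  have h1 : q ∣ y - x := Int.dvd_of_emod_eq_zero (Int.emod_eq_emod_iff_emod_sub_eq_zero.1 h.symm)
  have := Int.le_of_dvd (by omega) h1
  omega

theorem zp_sub (a : ℤ) : (zp p a = a ∧ zp p (a - p) = a - p) ∨ (zp p a = -a ∧ zp p (a - p) = -(a - p)) := by
  unfold zp
  rw [Int.sub_emod_right]
  split_ifs
  · exact Or.inl ⟨rfl, rfl⟩
  · exact Or.inr ⟨rfl, rfl⟩

theorem arr_lower (hp : 0 < p) {M₁ M₂ : List ℤ} {a : ℤ} (h : Arr p (M₁ ++ a :: M₂)) (ha : (p : ℤ) < a)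
    (hn : a - p ∉ M₁ ++ M₂) : Arr p (M₁ ++ (a - p) :: M₂) := by
  have hq : (0 : ℤ) < p := by exact_mod_cast hp
  obtain ⟨h1, h2⟩ := h
  rw [List.pairwise_append, List.pairwise_cons] at h1
  obtain ⟨h3, ⟨h4, h5⟩, h6⟩ := h1
  have hz := zp_sub (p := p) a
  have hm : zp p (a - p) % p = zp p a % p := by
    rcases hz with ⟨e1, e2⟩ | ⟨e1, e2⟩
    · rw [e1, e2, Int.sub_emod_right]
    · rw [e1, e2, show -(a - (p : ℤ)) = -a + p by ring, Int.add_emod_right]
  refine ⟨?_, fun x hx => ?_⟩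
  · rw [List.pairwise_append, List.pairwise_cons]
    refine ⟨h3, ⟨fun b hb => ?_, h5⟩, fun b hb c hc => ?_⟩
    · have h7 := h4 b hb
      have h8 : b ≠ a - p := fun e => hn (e ▸ List.mem_append_right _ hb)
      have h9 := h2 b (by simp [hb])
      have h10 := zp_cases (p := p) b
      unfold Bef at h7 ⊢
      rw [hm]
      rcases h7 with h7 | ⟨h7, h7'⟩
      · exact Or.inl h7
      · have h11 := dvd_gap hq h7.symm h7'
        refine Or.inr ⟨h7, ?_⟩
        omega
    · rcases List.mem_cons.1 hc with rfl | hc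
      · have h7 := h6 b hb a List.mem_cons_self
        have h8 : b ≠ a - p := fun e => hn (e ▸ List.mem_append_left _ hb)
        have h9 := h2 b (by simp [hb])
        have h10 := zp_cases (p := p) b
        unfold Bef at h7 ⊢
        rw [hm]
        rcases h7 with h7 | ⟨h7, h7'⟩
        · exact Or.inl h7
        · have h11 := dvd_gap hq h7.symm h7'
          refine Or.inr ⟨h7, ?_⟩
          omega
      · exact h6 b hb c (List.mem_cons_of_mem _ hc)
  · rcases List.mem_cons.1 (List.perm_middle.mem_iff.1 hx) with rfl | hx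
    · omega
    · exact h2 x (List.perm_middle.mem_iff.2 (List.mem_cons_of_mem _ hx))

theorem Arr.drop {M₁ M₂ : List ℤ} {a : ℤ} (h : Arr p (M₁ ++ a :: M₂)) : Arr p (M₁ ++ M₂) := by
  have h1 : (M₁ ++ M₂).Sublist (M₁ ++ a :: M₂) := (List.sublist_cons_self a M₂).append_left M₁
  exact ⟨h.1.sublist h1, fun x hx => h.2 x (h1.subset hx)⟩

theorem arr_last (hp : 0 < p) {M₁ M₂ : List ℤ} (h : Arr p (M₁ ++ (p : ℤ) :: M₂)) : M₂ = [] := by
  have hq : (0 : ℤ) < p := by exact_mod_cast hp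
  rcases M₂ with _ | ⟨b, M₂⟩
  · rfl
  · exfalso
    obtain ⟨h1, h2⟩ := h
    rw [List.pairwise_append, List.pairwise_cons] at h1
    have h3 := h1.2.1.1 b List.mem_cons_self
    have h4 := h2 b (by simp)
    have h5 : zp p (p : ℤ) = p := by unfold zp; rw [if_pos (Or.inr Int.emod_self)]
    unfold Bef at h3
    rw [h5, Int.emod_self] at h3
    have h6 := Int.emod_nonneg (zp p b) hq.ne'
    rcases h3 with h3 | ⟨h3, h3'⟩
    · omega
    · have h7 : zp p b = b := by
        unfold zp at h3 ⊢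
        split_ifs at h3 ⊢ with h8
        · rfl
        · exfalso
          apply h8
          right
          have h9 : (p : ℤ) ∣ -b := Int.dvd_of_emod_eq_zero h3.symm
          exact Int.emod_eq_zero_of_dvd (dvd_neg.1 h9)
      rw [h7] at h3 h3'
      have h9 := Int.le_of_dvd h4 (Int.dvd_of_emod_eq_zero h3.symm)
      omega

theorem arr_pair (hp : Odd p) {M₁ M₂ : List ℤ} {a : ℤ} (h : Arr p (M₁ ++ a :: M₂)) (hm : (p : ℤ) - a ∈ M₂) :
    ∃ M₃, M₂ = ((p : ℤ) - a) :: M₃ ∧ ∀ g : List ℤ → ℤ, Rules g → g (M₁ ++ (a - p) :: M₂) = 2 * g (M₁ ++ M₃) := by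
  have hq : (0 : ℤ) < p := by exact_mod_cast hp.pos
  have hodd : (p : ℤ) % 2 = 1 := by have := Nat.odd_iff.1 hp; omega
  have hnd := h.gd.1
  obtain ⟨h1, h2⟩ := h
  rw [List.pairwise_append, List.pairwise_cons] at h1
  obtain ⟨-, ⟨h4, h5⟩, -⟩ := h1
  have ha := h2 a (by simp)
  have hb := h2 (p - a) (by simp [hm])
  have e1 : a % p = a := Int.emod_eq_of_lt ha.le (by omega)
  have e2 : (p - a) % p = p - a := Int.emod_eq_of_lt hb.le (by omega)
  have e3 : (-(p - a)) % p = a := by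
    rw [show -((p : ℤ) - a) = a - p by ring, Int.sub_emod_right, e1]
  have e4 : (-a) % p = p - a := by
    rw [show -a = (p - a) - p by ring, Int.sub_emod_right, e2]
  have hpar : a % 2 = 1 := by
    by_contra hcon
    have h6 := h4 _ hm
    have z1 : zp p a = -a := by unfold zp; rw [e1, if_neg (by omega)]
    have z2 : zp p (p - a) = p - a := by unfold zp; rw [e2, if_pos (Or.inl (by omega))]
    unfold Bef at h6
    rw [z1, z2, e2, e4] at h6
    omega
  have z1 : zp p a = a := by unfold zp; rw [e1, if_pos (Or.inl hpar)]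
  have z2 : zp p (p - a) = -(p - a) := by unfold zp; rw [e2, if_neg (by omega)]
  obtain ⟨b, M₃, rfl⟩ := List.exists_cons_of_ne_nil (List.ne_nil_of_mem hm)
  have hba : b = p - a := by
    by_contra hcon
    have h6 : (p : ℤ) - a ∈ M₃ := (List.mem_cons.1 hm).resolve_left (Ne.symm hcon)
    have h7 := h4 b List.mem_cons_self
    have h8 := (List.pairwise_cons.1 h5).1 _ h6
    unfold Bef at h7 h8
    rw [z1, e1] at h7
    rw [z2, e3] at h8
    have h9 : zp p b % p = a := by omega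
    have h10 := dvd_gap hq (h9.trans e1.symm) (by omega)
    omega
  subst hba
  refine ⟨M₃, rfl, fun g hg => ?_⟩
  have h6 := hg.swap M₁ (a - p) (p - a) M₃
  rw [if_pos (by ring)] at h6
  have h7 : g (M₁ ++ (p - a) :: (a - p) :: M₃) = 0 := by
    have h8 := neg_zero hg (c := a - p) (by omega) M₃ (M₁ ++ [p - a]) (fun x hx e => by
      have h9 : x = p - a := by omega
      rw [List.nodup_append] at hnd
      have h10 := hnd.2.1
      rw [List.nodup_cons, List.nodup_cons] at h10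
      exact h10.2.1 (h9 ▸ hx))
    rwa [List.append_assoc, List.singleton_append] at h8
  have h8 : (-1 : ℤ) ^ (a - p).natAbs = 1 := Even.neg_one_pow (by
    rw [Int.natAbs_even, Int.even_iff]; omega)
  rw [h7, h8] at h6
  omega

/-- non-negative on the arranged lists -/
def NN (p : ℕ) (g : List ℤ → ℤ) : Prop := ∀ M, Arr p M → 0 ≤ g M

theorem term_nonneg (hp : Odd p) {g : List ℤ → ℤ} (hg : Rules g) (hn : NN p g) {M₁ M₂ : List ℤ} {a : ℤ}
    (h : Arr p (M₁ ++ a :: M₂)) : 0 ≤ g (M₁ ++ (a - p) :: M₂) := by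
  rcases lt_trichotomy (p : ℤ) a with ha | ha | ha
  · by_cases hm : a - p ∈ M₁ ++ M₂
    · rw [dup_zero hg h.drop.2 hm]
    · exact hn _ (arr_lower hp.pos h ha hm)
  · subst ha
    have h1 := arr_last hp.pos h
    subst h1
    rw [sub_self, hg.zero]
    have := h.drop
    rw [List.append_nil] at this
    exact hn _ this
  · by_cases hm : (p : ℤ) - a ∈ M₂
    · obtain ⟨M₃, rfl, h1⟩ := arr_pair hp h hm
      rw [h1 g hg]
      exact mul_nonneg (by norm_num) (hn _ h.drop.drop)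
    · rw [neg_zero hg (by omega) M₂ M₁ (fun b hb e => hm (by rwa [show (p : ℤ) - a = b by omega]))]

theorem nn_dl (hp : Odd p) {g : List ℤ → ℤ} (hg : Rules g) (hn : NN p g) : NN p (dl p g) :=
  fun _ hM => dl_nonneg fun _ _ _ hL => term_nonneg hp hg hn (hL ▸ hM)

/-- removing a `p`-bar -/
def Mv (p : ℕ) (L L' : List ℤ) : Prop :=
  (∃ (a : ℤ) (K : List ℤ), (p : ℤ) < a ∧ L.Perm (a :: K) ∧ L'.Perm ((a - p) :: K)) ∨ L.Perm ((p : ℤ) :: L') ∨
    ∃ a : ℤ, L.Perm (a :: ((p : ℤ) - a) :: L')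

theorem Mv.perm {L L' M M' : List ℤ} (h : Mv p L L') (h1 : M.Perm L) (h2 : M'.Perm L') : Mv p M M' := by
  rcases h with ⟨a, K, h3, h4, h5⟩ | h | ⟨a, h⟩
  · exact Or.inl ⟨a, K, h3, h1.trans h4, h2.trans h5⟩
  · exact Or.inr (Or.inl ((h1.trans h).trans (h2.symm.cons _)))
  · exact Or.inr (Or.inr ⟨a, (h1.trans h).trans ((h2.symm.cons _).cons _)⟩)

theorem mv_pos (hp : Odd p) {g : List ℤ → ℤ} (hg : Rules g) (hn : NN p g) {M M' : List ℤ} (hM : Arr p M)
    (hM' : Arr p M') (h : Mv p M M') (hpos : 0 < g M') : 0 < dl p g M := by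
  have pair : ∀ (a : ℤ) (M₁ M₂ : List ℤ), M = M₁ ++ a :: M₂ → (p : ℤ) - a ∈ M₂ →
      M.Perm (a :: ((p : ℤ) - a) :: M') → 0 < dl p g M := by
    intro a M₁ M₂ e hm h
    subst e
    obtain ⟨M₃, rfl, h1⟩ := arr_pair hp hM hm
    refine dl_pos (fun _ _ _ hL => term_nonneg hp hg hn (hL ▸ hM)) ?_
    have h2 : (M₁ ++ M₃).Perm M' := by
      have h3 : (a :: ((p : ℤ) - a) :: (M₁ ++ M₃)).Perm (M₁ ++ a :: ((p : ℤ) - a) :: M₃) :=
        (List.perm_middle.symm.cons a).trans List.perm_middle.symm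
      exact ((h3.trans h).cons_inv).cons_inv
    rw [h1 g hg, hM.drop.drop.eq hM' h2]
    omega
  rcases h with ⟨a, K, h3, h4, h5⟩ | h | ⟨a, h⟩
  · obtain ⟨M₁, M₂, rfl⟩ := List.append_of_mem (h4.mem_iff.2 List.mem_cons_self)
    have h6 : (M₁ ++ M₂).Perm K := (List.perm_middle.symm.trans h4).cons_inv
    have h7 : a - p ∉ M₁ ++ M₂ := fun h => (List.nodup_cons.1 (h5.nodup_iff.1 hM'.gd.1)).1 (h6.mem_iff.1 h)
    refine dl_pos (fun _ _ _ hL => term_nonneg hp hg hn (hL ▸ hM)) ?_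
    rwa [(arr_lower hp.pos hM h3 h7).eq hM' ((List.perm_middle.trans (h6.cons _)).trans h5.symm)]
  · obtain ⟨M₁, M₂, rfl⟩ := List.append_of_mem (h.mem_iff.2 List.mem_cons_self)
    have h1 := arr_last hp.pos hM
    subst h1
    refine dl_pos (fun _ _ _ hL => term_nonneg hp hg hn (hL ▸ hM)) ?_
    have h2 := hM.drop.eq hM' (List.perm_middle.symm.trans h).cons_inv
    rw [List.append_nil] at h2
    rwa [sub_self, hg.zero, h2]
  · obtain ⟨M₁, M₂, e⟩ := List.append_of_mem (h.mem_iff.2 List.mem_cons_self)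
    have h1 : (p : ℤ) - a ∈ M₁ ++ M₂ := by
      rw [e] at h
      exact (List.perm_middle.symm.trans h).cons_inv.mem_iff.2 List.mem_cons_self
    rcases List.mem_append.1 h1 with h2 | h2
    · obtain ⟨N₁, N₂, rfl⟩ := List.append_of_mem h2
      refine pair (p - a) N₁ (N₂ ++ a :: M₂) (by rw [e]; simp) (by simp) ?_
      rw [sub_sub_cancel]
      exact h.trans (List.Perm.swap _ _ _)
    · exact pair a M₁ M₂ e h2 h

/-- removing `w` bars -/
inductive Rch (p : ℕ) : ℕ → List ℤ → List ℤ → Prop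
  | zero {L K : List ℤ} : L.Perm K → Rch p 0 L K
  | succ {w : ℕ} {L L' K : List ℤ} : Gd L' → Mv p L L' → Rch p w L' K → Rch p (w + 1) L K

theorem Rch.perm {w : ℕ} {L K M : List ℤ} (h : Rch p w L K) (h1 : M.Perm L) : Rch p w M K := by
  cases h with
  | zero h => exact Rch.zero (h1.trans h)
  | succ h2 h3 h4 => exact Rch.succ h2 (h3.perm h1 (List.Perm.refl _)) h4

theorem iter_rules (hp : Odd p) {g : List ℤ → ℤ} (hg : Rules g) (hn : NN p g) (w : ℕ) :
    Rules ((dl p)^[w] g) ∧ NN p ((dl p)^[w] g) := by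
  induction w with
  | zero => exact ⟨hg, hn⟩
  | succ w ih =>
    rw [Function.iterate_succ']
    exact ⟨rules_dl ih.1 (by exact_mod_cast hp) (by exact_mod_cast hp.pos), nn_dl hp ih.1 ih.2⟩

theorem rch_pos (hp : Odd p) {g : List ℤ → ℤ} (hg : Rules g) (hn : NN p g) {w : ℕ} {L K : List ℤ}
    (h : Rch p w L K) (hK : ∀ M, Arr p M → M.Perm K → 0 < g M) :
    ∀ M, Arr p M → M.Perm L → 0 < (dl p)^[w] g M := by
  induction h with
  | zero h => exact fun M hM h1 => hK M hM (h1.trans h)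
  | @succ w L L' K h1 h2 _ ih =>
    intro M hM h3
    obtain ⟨M', hM', h4⟩ := h1.exists_arr p
    rw [Function.iterate_succ']
    exact mv_pos hp (iter_rules hp hg hn w).1 (iter_rules hp hg hn w).2 hM hM' (h2.perm h3 h4) (ih hK M' hM' h4)

/-! ### the pairing -/

section Pair

variable {ι : Type*} (t : Finset ι) (s : ι → Multiset ℕ) (c : ι → ℤ)

theorem rules_sum (hs : ∀ i ∈ t, ∀ r ∈ s i, Odd r) : Rules (fun M => ∑ i ∈ t, c i * X (s i) M) := by
  refine ⟨fun L₁ a b L₂ => ?_, fun L x hx => ?_, fun L => ?_⟩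
  · rw [← Finset.sum_add_distrib]
    have h1 : ∀ i ∈ t, c i * X (s i) (L₁ ++ a :: b :: L₂) + c i * X (s i) (L₁ ++ b :: a :: L₂) =
        if a + b = 0 then 2 * (-1) ^ a.natAbs * (c i * X (s i) (L₁ ++ L₂)) else 0 := by
      intro i hi
      rw [← mul_add, (X_rules (hs i hi)).swap]
      split_ifs <;> ring
    rw [Finset.sum_congr rfl h1]
    split_ifs
    · rw [Finset.mul_sum]
    · simp
  · exact Finset.sum_eq_zero fun i hi => by rw [(X_rules (hs i hi)).neg L x hx, mul_zero]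
  · exact Finset.sum_congr rfl fun i hi => by rw [(X_rules (hs i hi)).zero]

theorem iter_sum (p w : ℕ) : (dl p)^[w] (fun M => ∑ i ∈ t, c i * X (s i) M) =
    fun M => ∑ i ∈ t, c i * X (Multiset.replicate w p + s i) M := by
  induction w with
  | zero => simp
  | succ w ih =>
    rw [Function.iterate_succ', Function.comp_apply, ih]
    funext M
    rw [dl_sum]
    refine Finset.sum_congr rfl fun i _ => ?_
    rw [dl_mul, Multiset.replicate_succ, Multiset.cons_add, X_cons]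

end Pair

section Perm

variable {α : Type} [Fintype α] [DecidableEq α]

/-- the permutations with cycles of odd length only -/
def oddP (α : Type) [Fintype α] [DecidableEq α] : Finset (Equiv.Perm α) := univ.filter fun σ => ∀ r ∈ ty σ, Odd r

theorem base_strict {L L' : List ℤ} (hL : Strict L) (hL' : Strict L') (hs : L'.sum = Fintype.card α) :
    ∑ σ ∈ oddP α, 2 ^ Multiset.card (ty σ) * X (ty σ) L' * X (ty σ) L =
      if L = L' then ((Fintype.card α).factorial : ℤ) * 2 ^ L.length else 0 := by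
  have h2 := sum_perm (α := α) (fun s => H886.Spin.wt s * H886.Spin.QQ s L * H886.Spin.QQ s L')
  have h4 := H886.Spin.W_strict (γ := L) (β := L') hL hL'
  unfold H886.Spin.W at h4
  rw [hs, if_pos (by omega), Int.toNat_natCast] at h4
  rw [h4] at h2
  have h5 : ((∑ σ ∈ oddP α, 2 ^ Multiset.card (ty σ) * X (ty σ) L' * X (ty σ) L : ℤ) : ℚ) =
      ∑ σ : Equiv.Perm α, H886.Spin.wt (ty σ) * H886.Spin.QQ (ty σ) L * H886.Spin.QQ (ty σ) L' := by
    unfold oddP
    rw [Finset.sum_filter]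
    push_cast
    refine Finset.sum_congr rfl fun σ _ => ?_
    unfold H886.Spin.wt H886.Spin.QQ
    rw [← H886.Spin.X_eq, ← H886.Spin.X_eq]
    split_ifs <;> ring
  rw [h2] at h5
  split_ifs at h5 ⊢
  · exact_mod_cast h5
  · rw [mul_zero] at h5
    exact_mod_cast h5

theorem base_arr {M M' : List ℤ} (hM : Arr p M) (hM' : Arr p M') :
    0 ≤ ∑ σ ∈ oddP α, 2 ^ Multiset.card (ty σ) * X (ty σ) M' * X (ty σ) M ∧
      (M = M' → M'.sum = Fintype.card α →
        0 < ∑ σ ∈ oddP α, 2 ^ Multiset.card (ty σ) * X (ty σ) M' * X (ty σ) M) := by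
  by_cases hs : M'.sum = Fintype.card α
  swap
  · refine ⟨le_of_eq (Finset.sum_eq_zero fun σ _ => ?_).symm, fun _ h => absurd h hs⟩
    rw [X_eq_zero_of_sum _ M' (by rw [ty_sum]; exact hs), mul_zero, zero_mul]
  obtain ⟨L', hL', h1'⟩ := hM'.gd.exists_strict
  obtain ⟨ε', h2', h3'⟩ := perm_sign h1' hM'.2
  have hs' : L'.sum = Fintype.card α := by rw [← h1'.sum_eq, hs]
  by_cases hMM : M = M'
  · subst hMM
    have h4 : ∑ σ ∈ oddP α, 2 ^ Multiset.card (ty σ) * X (ty σ) M * X (ty σ) M =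
        ∑ σ ∈ oddP α, 2 ^ Multiset.card (ty σ) * X (ty σ) L' * X (ty σ) L' := by
      refine Finset.sum_congr rfl fun σ hσ => ?_
      have h5 := h3' _ (X_rules (Finset.mem_filter.1 hσ).2) []
      simp only [List.nil_append] at h5
      rw [h5]
      linear_combination (2 ^ Multiset.card (ty σ) * X (ty σ) L' * X (ty σ) L') * h2'
    rw [h4, base_strict hL' hL' hs', if_pos rfl]
    have h5 : (0 : ℤ) < ((Fintype.card α).factorial : ℤ) * 2 ^ L'.length :=
      mul_pos (by exact_mod_cast Nat.factorial_pos _) (by positivity)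
    exact ⟨h5.le, fun _ _ => h5⟩
  · refine ⟨?_, fun h => absurd h hMM⟩
    obtain ⟨L, hL, h1⟩ := hM.gd.exists_strict
    obtain ⟨ε, h2, h3⟩ := perm_sign h1 hM.2
    have h4 : ∑ σ ∈ oddP α, 2 ^ Multiset.card (ty σ) * X (ty σ) M' * X (ty σ) M =
        ε * ε' * ∑ σ ∈ oddP α, 2 ^ Multiset.card (ty σ) * X (ty σ) L' * X (ty σ) L := by
      rw [Finset.mul_sum]
      refine Finset.sum_congr rfl fun σ hσ => ?_
      have h5 := h3 _ (X_rules (Finset.mem_filter.1 hσ).2) []
      have h5' := h3' _ (X_rules (Finset.mem_filter.1 hσ).2) []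
      simp only [List.nil_append] at h5 h5'
      rw [h5, h5']
      ring
    rw [h4, base_strict hL hL' hs', if_neg, mul_zero]
    rintro rfl
    exact hMM (hM.eq hM' (h1.trans h1'.symm))

/-- **labels which reach the same list are linked** -/
theorem pair_ne_zero (hp : Odd p) {w : ℕ} {L L' K : List ℤ} (hL : Gd L) (hL' : Gd L') (h : Rch p w L K)
    (h' : Rch p w L' K) (hs : K.sum = Fintype.card α) :
    ∑ σ ∈ oddP α, 2 ^ Multiset.card (ty σ) * X (Multiset.replicate w p + ty σ) L *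
      X (Multiset.replicate w p + ty σ) L' ≠ 0 := by
  have hodd : ∀ σ ∈ oddP α, ∀ r ∈ ty σ, Odd r := fun σ hσ => (Finset.mem_filter.1 hσ).2
  obtain ⟨M, hM, h1⟩ := hL.exists_arr p
  obtain ⟨M', hM', h1'⟩ := hL'.exists_arr p
  -- first step
  have step1 : ∀ N, Arr p N → 0 ≤ ∑ σ ∈ oddP α, 2 ^ Multiset.card (ty σ) * X (ty σ) N *
        X (Multiset.replicate w p + ty σ) M ∧ (N.Perm K → 0 < ∑ σ ∈ oddP α, 2 ^ Multiset.card (ty σ) * X (ty σ) N *
        X (Multiset.replicate w p + ty σ) M) := by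
    intro N hN
    have r1 := rules_sum (oddP α) (fun σ => ty σ) (fun σ => 2 ^ Multiset.card (ty σ) * X (ty σ) N) hodd
    have n1 : NN p (fun M => ∑ σ ∈ oddP α, 2 ^ Multiset.card (ty σ) * X (ty σ) N * X (ty σ) M) :=
      fun M hM => (base_arr hM hN).1
    have i1 := iter_sum (oddP α) (fun σ => ty σ) (fun σ => 2 ^ Multiset.card (ty σ) * X (ty σ) N) p w
    refine ⟨?_, fun hNK => ?_⟩
    · have := (iter_rules hp r1 n1 w).2 M hM
      rwa [i1] at this
    · have := rch_pos hp r1 n1 h (fun M₀ hM₀ h0 => (base_arr hM₀ hN).2 (hM₀.eq hN (h0.trans hNK.symm))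
        (by rw [hNK.sum_eq, hs])) M hM h1
      rwa [i1] at this
  have r2 := rules_sum (oddP α) (fun σ => ty σ)
    (fun σ => 2 ^ Multiset.card (ty σ) * X (Multiset.replicate w p + ty σ) M) hodd
  have e2 : ∀ N, ∑ σ ∈ oddP α, 2 ^ Multiset.card (ty σ) * X (Multiset.replicate w p + ty σ) M * X (ty σ) N =
      ∑ σ ∈ oddP α, 2 ^ Multiset.card (ty σ) * X (ty σ) N * X (Multiset.replicate w p + ty σ) M :=
    fun N => Finset.sum_congr rfl fun σ _ => by ring
  have h3 := rch_pos hp r2 (fun N hN => by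
    show 0 ≤ ∑ σ ∈ oddP α, _
    rw [e2]; exact (step1 N hN).1) h' (fun N hN hNK => by
    show 0 < ∑ σ ∈ oddP α, _
    rw [e2]; exact (step1 N hN).2 hNK) M' hM' h1'
  rw [iter_sum] at h3
  obtain ⟨ε, -, h4⟩ := perm_sign h1 hM.2
  obtain ⟨ε', -, h4'⟩ := perm_sign h1' hM'.2
  intro h0
  have h5 : ∑ σ ∈ oddP α, 2 ^ Multiset.card (ty σ) * X (Multiset.replicate w p + ty σ) M *
      X (Multiset.replicate w p + ty σ) M' = ε * ε' * ∑ σ ∈ oddP α, 2 ^ Multiset.card (ty σ) *
        X (Multiset.replicate w p + ty σ) L * X (Multiset.replicate w p + ty σ) L' := by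
    rw [Finset.mul_sum]
    refine Finset.sum_congr rfl fun σ hσ => ?_
    have ho : ∀ r ∈ Multiset.replicate w p + ty σ, Odd r := fun r hr => by
      rcases Multiset.mem_add.1 hr with hr | hr
      · rw [Multiset.eq_of_mem_replicate hr]; exact hp
      · exact hodd σ hσ r hr
    have h5 := h4 _ (X_rules ho) []
    have h5' := h4' _ (X_rules ho) []
    simp only [List.nil_append] at h5 h5'
    rw [h5, h5']
    ring
  beta_reduce at h3
  rw [h5, h0, mul_zero] at h3
  exact lt_irrefl _ h3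

end Perm

end Cfsg.Agent.BZ.Alt
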