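import Cfsg.Agent.BZ.Alt.Lab
import Cfsg.Agent.BZ.Alt.Hook
import Cfsg.Agent.BZ.Defs
import Cfsg.Agent.H649.Transport

/-!
# BZ/Alt: the spin blocks of the double covers of the alternating groups, `p` odd (helper31)

`spin_cover` : a block of faithful characters with a non-abelian defect group has a member of positive height and two
members of height zero with different degrees.
-/

set_option autoImplicit false
set_option linter.unusedSectionVars false
set_option maxHeartbeats 400000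

namespace Cfsg.Agent.BZ.Alt

open Finset Cfsg Cfsg.Agent.Characters.Core Cfsg.Agent.H614 Cfsg.Agent.H614.Spin
open Cfsg.Agent.H686.Spin Cfsg.Agent.KM Cfsg.Agent.SporadicRecognition.AltCover
open scoped ComplexConjugate

universe u

section General

variable {G : Type u} [Group G] {p : ℕ} {M : Ideal AlgInt} {B : Set (IrrCharacter G)}

theorem hz_map {H : Type u} [Group H] (e : G ≃* H) (h : BK.HZ p B) : BK.HZ p (H649.blkMap e B) := by
  rintro _ ⟨χ, hχ, rfl⟩
  rw [H649.blockHeight_blkMap]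
  exact h χ hχ

theorem eqD_map {H : Type u} [Group H] (e : G ≃* H) (h : EqD p B) : EqD p (H649.blkMap e B) := by
  rintro _ ⟨χ, hχ, rfl⟩ _ ⟨ψ, hψ, rfl⟩
  rw [H649.blockHeight_blkMap, H649.blockHeight_blkMap, H649.charDegree_irrMap, H649.charDegree_irrMap]
  exact h χ hχ ψ hψ

theorem nab_map {H : Type u} [Group H] (e : G ≃* H) {D : Subgroup G} (h : ¬ IsMulCommutative D) :
    ¬ IsMulCommutative (D.map e.toMonoidHom) := fun h1 => h ⟨⟨fun a b => by
  have h2 := congrArg Subtype.val (h1.is_comm.comm ⟨e a, a, a.2, rfl⟩ ⟨e b, b, b.2, rfl⟩)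
  apply Subtype.ext
  apply e.injective
  rw [Subgroup.coe_mul, Subgroup.coe_mul, map_mul, map_mul]
  exact h2⟩⟩

theorem not_hz_of_ne {χ ψ : IrrCharacter G} (hχ : χ ∈ B) (hψ : ψ ∈ B)
    (h : (charDegree (χ : G → ℂ)).factorization p ≠ (charDegree (ψ : G → ℂ)).factorization p) : ¬ BK.HZ p B := fun H => by
  have h1 := H χ hχ
  have h2 := H ψ hψ
  have h3 := Nat.sInf_le (s := (fun ψ : IrrCharacter G => (charDegree (ψ : G → ℂ)).factorization p) '' B) ⟨χ, hχ, rfl⟩
  have h4 := Nat.sInf_le (s := (fun ψ : IrrCharacter G => (charDegree (ψ : G → ℂ)).factorization p) '' B) ⟨ψ, hψ, rfl⟩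
  rw [blockHeight] at h1 h2
  simp only at h3 h4
  omega

theorem height_zero_of_le [Finite G] [hp : Fact p.Prime] (hM : IsPModular p M) (hB : IsPBlock M B) {D : Subgroup G}
    (hD : IsDefectGroup p M B D) {d : ℕ} (hd : (Nat.card D).factorization p ≤ d) {ψ : IrrCharacter G}
    (h : (charDegree (ψ : G → ℂ)).factorization p + d ≤ (Nat.card G).factorization p) :
    blockHeight p B (ψ : G → ℂ) = 0 := by
  rw [S0908.result p M hM B hB D hD, hp.out.factorization_pow, Finsupp.single_eq_same] at hd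
  unfold blockDefect at hd
  unfold blockHeight
  omega

end General

section SupS

variable {α : Type} [Fintype α] [DecidableEq α] {p : ℕ} [hp : Fact p.Prime]

theorem mem_cyc_of_lt {σ g : Equiv.Perm α} {w : ℕ} (hσ : σ.cycleType = Multiset.replicate w p) (hw : w < p)
    (hg : g ∈ supS σ) {k : ℕ} (hk : g ^ p ^ k = 1) : g ∈ cyc σ := by
  refine (mem_ker_rho σ ⟨g, hg⟩).1 ?_
  rw [MonoidHom.mem_ker]
  have h1 : orderOf (rho σ ⟨g, hg⟩) ∣ p ^ k := by
    rw [orderOf_dvd_iff_pow_eq_one, ← map_pow, show (⟨g, hg⟩ : supS σ) ^ p ^ k = 1 from Subtype.ext hk, map_one]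
  have h2 := orderOf_dvd_card (x := rho σ ⟨g, hg⟩)
  rw [Fintype.card_perm, card_cycleFactors hσ] at h2
  obtain ⟨j, -, hj⟩ := (Nat.dvd_prime_pow hp.out).1 h1
  rcases Nat.eq_zero_or_pos j with rfl | hj0
  · rwa [pow_zero, orderOf_eq_one_iff] at hj
  · rw [hj] at h2
    have h3 := (dvd_pow_self p hj0.ne').trans h2
    rw [hp.out.dvd_factorial] at h3
    omega

theorem val_factorial_mono {a c : ℕ} (h : a ≤ c) : padicValNat p a.factorial ≤ padicValNat p c.factorial :=
  (padicValNat_dvd_iff_le (Nat.factorial_ne_zero c)).1 (pow_padicValNat_dvd.trans (Nat.factorial_dvd_factorial h))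

end SupS

variable {n : ℕ} {T : Type} [Group T] [Finite T] {P : T →* Equiv.Perm (Fin n)} {z : T} {b : T → ℂ}
  {p : ℕ} [hp : Fact p.Prime] {M : Ideal AlgInt}

theorem card_AP (hn : 2 ≤ n) (h : SpinData n P z b) : Nat.card (AP P) = n.factorial := by
  let _ : Fintype T := Fintype.ofFinite T
  have hn0 : Nontrivial (Fin n) := Fin.nontrivial_iff_two_le.mpr hn
  have hindex : (AP P).index = 2 := by
    rw [Subgroup.index_comap_of_surjective _ h.surj, alternatingGroup.index_eq_two]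
  have h1 : Nat.card T = 2 * n.factorial := by exact_mod_cast H886.Spin.card_T h.surj h.z_ne h.ker
  have h2 := (AP P).card_mul_index
  rw [hindex, h1] at h2
  omega

/-- the weight of the labels and the defect group -/
theorem exists_weight (hp2 : p ≠ 2) (h : SpinData n P z b) (hM : IsPModular p M) {B : Set (IrrCharacter (AP P))}
    (hB : IsPBlock M B) {D : Subgroup (AP P)} (hD : IsDefectGroup p M B D) (hna : ¬ IsMulCommutative D) :
    ∃ w, p ≤ w ∧ (Nat.card D).factorization p ≤ w + padicValNat p w.factorial ∧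
      ∀ ψ ∈ B, ∀ (L : List ℤ) (c : ℂ), Lab P b (ψ : AP P → ℂ) L c → (w : ℤ) ≤ wt p L := by
  classical
  have hodd : Odd p := hp.out.odd_of_ne_two hp2
  let f : AP P →* Equiv.Perm (Fin n) := P.comp (AP P).subtype
  have hf : ∀ x, f x = P (x : T) := fun _ => rfl
  have hkc : f.ker ≤ Subgroup.center (AP P) := by
    intro x hx
    rw [Subgroup.mem_center_iff]
    intro g
    apply Subtype.ext
    rw [Subgroup.coe_mul, Subgroup.coe_mul]
    rcases (h.ker x).1 hx with h1 | h1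
    · rw [h1, mul_one, one_mul]
    · rw [h1, h.z_comm]
  have hkp : ¬ p ∣ Nat.card f.ker := by
    intro h1
    obtain ⟨x, hx⟩ := exists_prime_orderOf_dvd_card' p h1
    have h2 : orderOf x ∣ 2 := by
      rw [orderOf_dvd_iff_pow_eq_one]
      exact Subtype.ext (Subtype.ext (sq_of_ker h x.2))
    rw [hx] at h2
    exact hp2 ((Nat.prime_dvd_prime_iff_eq hp.out Nat.prime_two).1 h2)
  have hDp : IsPGroup p D := Blocks.Basic.isPGroup_of_isDefectGroup hD
  have hpow : ∀ y ∈ D, ∃ k, (y : T) ^ p ^ k = 1 := fun y hy => by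
    obtain ⟨k, hk⟩ := hDp ⟨y, hy⟩
    exact ⟨k, congrArg (fun x : D => ((x : AP P) : T)) hk⟩
  obtain ⟨g, hgreg, hDg, hne⟩ := exists_defect_elt hM hB hD
  obtain ⟨u, huD, hDu, ⟨w, hw⟩, hsup, hdis⟩ := H886.Full.exists_full (p := p) f hkc hkp hDp
    (fun Q hQ _ hQN hn' => radical hM hB hD Q hQ hQN hn') (by
      rintro σ ⟨k, hk⟩
      obtain ⟨x, hx⟩ := h.surj σ
      refine ⟨⟨x, ?_⟩, hx⟩
      show P x ∈ alternatingGroup (Fin n)
      rw [hx]
      exact mem_alt_of_pow (hodd.pow : Odd (p ^ k)) (by rw [← hk, pow_orderOf_eq_one]))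
  have hS : ∀ y ∈ D, f y ∈ supS (f u) := fun y hy =>
    ⟨by rw [← map_mul, hDu y hy, map_mul], fun i hi => by
      by_contra h1
      exact Equiv.Perm.mem_support.1 (hsup y hy (Equiv.Perm.mem_support.2 h1)) hi⟩
  have hpw : p ≤ w := by
    by_contra hlt
    refine hna ⟨⟨fun a c => ?_⟩⟩
    obtain ⟨k, hk⟩ := hpow a a.2
    obtain ⟨l, hl⟩ := hpow c c.2
    have h1 := mem_cyc_of_lt hw (by omega) (hS a a.2) (k := k) (by rw [hf, ← map_pow, hk, map_one])
    have h2 := mem_cyc_of_lt hw (by omega) (hS c c.2) (k := l) (by rw [hf, ← map_pow, hl, map_one])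
    exact Subtype.ext (Subtype.ext (comm_lift h (hodd.pow : Odd (p ^ l)) hl (cyc_comm h1 h2)))
  have h3 := hp.out.two_le
  refine ⟨w, hpw, ?_, fun ψ hψ L c hlab => ?_⟩
  · let F : D →* supS (f u) := (f.comp D.subtype).codRestrict _ fun y => hS y y.2
    have hF : Function.Injective F := by
      rw [injective_iff_map_eq_one]
      intro y hy
      obtain ⟨k, hk⟩ := hpow y y.2
      have h1 : P ((y : AP P) : T) = P 1 := by rw [map_one]; exact congrArg Subtype.val hy
      exact Subtype.ext (Subtype.ext (lift_uniq h (hodd.pow : Odd (p ^ k)) h1 hk (one_pow _)))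
    rw [← factorization_supS hw]
    exact (Nat.factorization_le_iff_dvd Nat.card_pos.ne' Nat.card_pos.ne').2 (Subgroup.card_dvd_of_injective F hF) p
  · obtain ⟨τ, hτs, hτc, hτsup⟩ := H112.Comm.exists_odd_swap (by omega) hw
    obtain ⟨t, ht⟩ := h.surj τ
    have htA : P t ∉ alternatingGroup (Fin n) := by
      rw [ht, Equiv.Perm.mem_alternatingGroup, hτs]
      decide
    have htg : t * (g : T) = (g : T) * t := by
      refine H112.Comm.comm_of_disjoint h.surj h.z_comm h.ker ?_ g.2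
      rw [Equiv.Perm.disjoint_iff_disjoint_support, ht]
      exact Finset.disjoint_of_subset_left hτsup
        (Equiv.Perm.disjoint_iff_disjoint_support.1 (hdis g hgreg hDg))
    obtain ⟨m, hm⟩ := hpow u huD
    have htu : t * (u : T) = (u : T) * t := comm_lift h (hodd.pow : Odd (p ^ m)) hm (by rw [ht]; exact hτc)
    have h1 := hlab t htA (u * g) (u * g) (by
      rw [Subgroup.coe_mul, ← mul_assoc, htu, mul_assoc (u : T) t, htg, ← mul_assoc, mul_inv_cancel_right])
    have hne' : (ψ : AP P → ℂ) (u * g) ≠ 0 := hne u huD hDu ψ hψ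
    have h2 : (b ((u * g : AP P) : T)) * (X (ty (P ((u * g : AP P) : T))) L : ℂ) ≠ 0 := by
      intro h3
      rw [h3, mul_zero, ← two_mul] at h1
      exact mul_ne_zero two_ne_zero hne' h1
    have ho : ∀ i ∈ ty (P ((u * g : AP P) : T)), Odd i := by
      by_contra h3
      exact h2 (by rw [h.van _ h3, zero_mul])
    by_contra hlt
    push Not at hlt
    apply h2
    rw [H886.Spin.X_eq_zero_of_wt hodd ho]
    · simp
    · have h3 : P ((u * g : AP P) : T) = f u * f g := by rw [← map_mul]; rfl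
      have h4 : p * w ≤ ((ty (P ((u * g : AP P) : T))).filter (p ∣ ·)).sum := by
        rw [h3, ty_eq, (hdis g hgreg hDg).cycleType_mul, hw, Multiset.filter_add, Multiset.filter_add,
          Multiset.sum_add, Multiset.sum_add, Multiset.filter_eq_self.2 (fun a ha => by
            rw [Multiset.eq_of_mem_replicate ha]), Multiset.sum_replicate, smul_eq_mul]
        have := Nat.mul_comm w p
        omega
      have h5 : (p : ℤ) * wt p L < ((p * w : ℕ) : ℤ) := by
        have : (0 : ℤ) < p := by exact_mod_cast hp.out.pos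
        rw [Nat.cast_mul]
        exact mul_lt_mul_of_pos_left hlt this
      exact lt_of_lt_of_le h5 (Int.ofNat_le.2 h4)

theorem spin_AP (hn : 2 ≤ n) (hp2 : p ≠ 2) (h : SpinData n P z b) (hM : IsPModular p M)
    {B : Set (IrrCharacter (AP P))} (hB : IsPBlock M B) {D : Subgroup (AP P)} (hD : IsDefectGroup p M B D)
    (hna : ¬ IsMulCommutative D) (hz : ∀ ψ ∈ B, ∀ x : AP P, (x : T) = z → (ψ : AP P → ℂ) x ≠ (ψ : AP P → ℂ) 1) :
    ¬ BK.HZ p B ∧ ¬ EqD p B := by
  have hMp : M.IsPrime := hM.2.1.isPrime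
  have hodd : Odd p := hp.out.odd_of_ne_two hp2
  have h3 : 3 ≤ p := by have := hp.out.two_le; omega
  obtain ⟨w₀, hw₀, hd, hwt⟩ := exists_weight hp2 h hM hB hD hna
  obtain ⟨ψ, hψ⟩ := Blocks.Basic.isPBlock_nonempty hB
  obtain ⟨L₀, c, hL₀, hs₀, hc, hlab⟩ := lab_of_faith hn h ψ (hz ψ hψ)
  obtain ⟨w, K, hR₀, hK⟩ := exists_cor hodd (gd_of_strict hL₀)
  have hw : w₀ ≤ w := by
    have h1 := hwt ψ hψ L₀ c hlab
    rw [hR₀.wt hodd, hK.wt hp2, zero_add] at h1
    exact_mod_cast h1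
  obtain ⟨c₀, hc₀⟩ : ∃ c₀, c₀ = if Even n then 2 else 1 := ⟨_, rfl⟩
  obtain ⟨k, hk⟩ := h.one_pos
  have hn0 : Nontrivial (Fin n) := Fin.nontrivial_iff_two_le.mpr hn
  obtain ⟨t, ht⟩ : ∃ t : T, P t ∉ alternatingGroup (Fin n) := by
    obtain ⟨i, j, hij⟩ := exists_pair_ne (Fin n)
    obtain ⟨t, ht⟩ := h.surj (Equiv.swap i j)
    refine ⟨t, ?_⟩
    rw [ht, Equiv.Perm.mem_alternatingGroup, Equiv.Perm.sign_swap hij]
    decide
  have hmem : ∀ L, Gd L → Rch p w L K → ∃ χ ∈ B,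
      (charDegree (χ : AP P → ℂ) : ℚ) * 2 ^ ((L.length + c₀) / 2 + 1) = 2 ^ k * (n.factorial * Ed L) := by
    intro L hL hR
    obtain ⟨L', hL', hperm⟩ := hL.exists_strict
    have hR' := hR.perm hperm.symm
    have hs : L'.sum = n := by rw [hR'.sum, ← hR₀.sum, hs₀]
    obtain ⟨χ, hχ⟩ := exists_lab hn h hL' hs
    refine ⟨χ, Blocks.Basic.isPBlock_mem_of_sameBlock hB hψ (link_lab hp2 hM h hc
      (inv_ne_zero (pow_ne_zero _ two_ne_zero)) hlab hχ (gd_of_strict hL₀) (gd_of_strict hL') hs₀ (by omega) hR₀ hR' hK),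
      ?_⟩
    have h1 := hχ t ht 1 1 (by simp)
    rw [Subgroup.coe_one, map_one, ty_one, Fintype.card_fin, hk, (charDegree_pos χ.2).2, ← hc₀, ← hperm.length_eq,
      eq_inv_mul_iff_mul_eq₀ (pow_ne_zero _ two_ne_zero)] at h1
    rw [Ed_perm hperm, ← X_Ed hL' hs]
    have h2 : (((charDegree (χ : AP P → ℂ) : ℚ) * 2 ^ ((L.length + c₀) / 2 + 1) : ℚ) : ℂ) =
        ((2 ^ k * (X (Multiset.replicate n 1) L' : ℚ) : ℚ) : ℂ) := by
      push_cast
      rw [← h1]; ring
    exact_mod_cast h2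
  have h2p : padicValRat p 2 = 0 := by
    rw [show (2 : ℚ) = ((2 : ℕ) : ℚ) from rfl, padicValRat.of_nat, padicValNat_primes hp2, Nat.cast_zero]
  have hval : ∀ {L : List ℤ} {χ : IrrCharacter (AP P)} {e : ℕ}, Gd L →
      (charDegree (χ : AP P → ℂ) : ℚ) * 2 ^ e = 2 ^ k * (n.factorial * Ed L) →
      ((charDegree (χ : AP P → ℂ)).factorization p : ℤ) = n.factorial.factorization p + padicValRat p (Ed L) := by
    intro L χ e hL h1
    have h2 := congrArg (padicValRat p) h1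
    have z1 : (charDegree (χ : AP P → ℂ) : ℚ) ≠ 0 := by exact_mod_cast (charDegree_pos χ.2).1.ne'
    have z2 : (n.factorial : ℚ) ≠ 0 := by exact_mod_cast n.factorial_ne_zero
    rw [padicValRat.mul z1 (pow_ne_zero _ two_ne_zero), padicValRat.mul (pow_ne_zero _ two_ne_zero)
      (mul_ne_zero z2 (Ed_pos hL).ne'), padicValRat.mul z2 (Ed_pos hL).ne', padicValRat.pow, padicValRat.pow, h2p,
      padicValRat.of_nat, padicValRat.of_nat] at h2
    rw [Nat.factorization_def _ hp.out, Nat.factorization_def _ hp.out]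
    linarith
  obtain ⟨x, hx⟩ := hK.exists_top hodd h3
  obtain ⟨L₁, hL₁, hR₁, hv₁⟩ := hx.exists_pos (w := w) (by omega)
  obtain ⟨L₂, L₃, e₂, e₃, hL₂, hL₃, hR₂, hR₃, hv₂, hv₃, hl₂, hl₃, hne⟩ := hx.exists_two (w := w) (by omega)
  obtain ⟨χ₁, hχ₁, hd₁⟩ := hmem L₁ hL₁ hR₁
  obtain ⟨χ₂, hχ₂, hd₂⟩ := hmem L₂ hL₂ hR₂
  obtain ⟨χ₃, hχ₃, hd₃⟩ := hmem L₃ hL₃ hR₃
  have q₁ := hval hL₁ hd₁
  have q₂ := hval hL₂ hd₂
  have q₃ := hval hL₃ hd₃
  rw [hv₂] at q₂
  rw [hv₃] at q₃
  have hd' : (Nat.card D).factorization p ≤ w + padicValNat p w.factorial :=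
    hd.trans (Nat.add_le_add hw (val_factorial_mono hw))
  refine ⟨not_hz_of_ne hχ₁ hχ₂ (by omega), fun H => hne ?_⟩
  have h1 := H χ₂ hχ₂ χ₃ hχ₃ (height_zero_of_le hM hB hD hd' (by rw [card_AP hn h]; omega))
    (height_zero_of_le hM hB hD hd' (by rw [card_AP hn h]; omega))
  rw [hl₂, show (K.length + 2 * e₂ + c₀) / 2 + 1 = (K.length + c₀) / 2 + 1 + e₂ by omega, pow_add, h1] at hd₂
  rw [hl₃, show (K.length + 2 * e₃ + c₀) / 2 + 1 = (K.length + c₀) / 2 + 1 + e₃ by omega, pow_add] at hd₃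
  have z2 : (2 : ℚ) ^ k * n.factorial ≠ 0 :=
    mul_ne_zero (pow_ne_zero _ two_ne_zero) (by exact_mod_cast n.factorial_ne_zero)
  refine mul_left_cancel₀ z2 ?_
  linear_combination 2 ^ e₂ * hd₃ - 2 ^ e₃ * hd₂

/-- **the spin blocks** -/
theorem spin_cover (hn : 5 ≤ n) (hp2 : p ≠ 2) {H : Type} [Group H] [Finite H] {π : H →* alternatingGroup (Fin n)}
    {z : H} (h : IsCover π z) (hM : IsPModular p M) {B : Set (IrrCharacter H)} (hB : IsPBlock M B) {D : Subgroup H}
    (hD : IsDefectGroup p M B D) (hna : ¬ IsMulCommutative D) (hz : ∀ ψ ∈ B, (ψ : H → ℂ) z ≠ (ψ : H → ℂ) 1) :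
    ¬ BK.HZ p B ∧ ¬ EqD p B := by
  obtain ⟨T, iT, fT, P, zT, b, e, hsp, -, hez⟩ := exists_spinData hn h
  have h1 := spin_AP (by omega) hp2 hsp hM (H649.isPBlock_blkMap (e := e) hB) (H649.isDefectGroup_blkMap hD)
    (nab_map e hna) (by
      rintro _ ⟨ψ, hψ, rfl⟩ x hx
      have h1 : x = e z := Subtype.ext (by rw [hx, hez])
      rw [h1, H649.irrMap_apply', H649.irrMap_one]
      exact hz ψ hψ)
  exact ⟨fun H => h1.1 (hz_map e H), fun H => h1.2 (eqD_map e H)⟩

end Cfsg.Agent.BZ.Alt
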